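import Cfsg.Agent.Prae.Defs

set_option autoImplicit false

namespace Cfsg.Agent.Prae
open Equiv

variable {Ω : Type} [Fintype Ω] [DecidableEq Ω]

omit [Fintype Ω] [DecidableEq Ω] in
theorem api_fx (K : Subgroup (Perm Ω)) (w : Perm Ω) (x : Ω) :
    Fx (K.map (MulAut.conj w).toMonoidHom) x ↔ Fx K (w⁻¹ x) := by
  constructor
  · intro h k hk
    have : (w * k * w⁻¹) x = x := h _ ⟨k, hk, rfl⟩
    rw [Perm.mul_apply, Perm.mul_apply] at this
    exact Perm.eq_inv_iff_eq.2 this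
  · rintro h _ ⟨k, hk, rfl⟩
    change (w * k * w⁻¹) x = x
    rw [Perm.mul_apply, Perm.mul_apply, h k hk]
    simp

theorem api_map {A B : Type*} [Group A] [Group B] (f : A →* B) (K : Subgroup A) (g : A) :
    (K.map (MulAut.conj g).toMonoidHom).map f = (K.map f).map (MulAut.conj (f g)).toMonoidHom := by
  rw [Subgroup.map_map, Subgroup.map_map]
  congr 1
  ext a
  simp

/-- If `H` contains `K` and `g K g⁻¹` then some `w ∈ H` has `w F = g F`.
Proof: `hp g hg` gives `w ∈ K ⊔ K^g ≤ H` with `K^w = K^g`; `Fx K (w⁻¹ x)` iff `x` is fixed by `K^w`. -/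
theorem pn_stab {G K H : Subgroup (Perm Ω)} (hp : Pn K G) {g : Perm Ω} (hg : g ∈ G) (h1 : K ≤ H)
    (h2 : ∀ k ∈ K, g * k * g⁻¹ ∈ H) : ∃ w ∈ H, ∀ x, Fx K (w⁻¹ x) ↔ Fx K (g⁻¹ x) := by
  obtain ⟨w, hw, e⟩ := hp g hg
  refine ⟨w, (sup_le h1 ?_ : _ ≤ H) hw, fun x => by rw [← api_fx, ← api_fx, e]⟩
  rintro _ ⟨k, hk, rfl⟩
  exact h2 k hk

/-- Witt's lemma. Proof: `H` = elements of `R` fixing `g x` for all `x ∈ s`; it contains `K` and `gKg⁻¹`;
`pn_stab` gives `w ∈ H`; take `n = w⁻¹ * g`. -/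
theorem witt {K R : Subgroup (Perm Ω)} (hp : Pn K R) (hKR : K ≤ R) {g : Perm Ω} (hg : g ∈ R)
    (s : Set Ω) (h1 : ∀ x ∈ s, Fx K x) (h2 : ∀ x ∈ s, Fx K (g x)) :
    ∃ n ∈ R, (∀ x, Fx K (n x) ↔ Fx K x) ∧ ∀ x ∈ s, n x = g x := by
  let H : Subgroup (Perm Ω) :=
    { carrier := {r | r ∈ R ∧ ∀ x ∈ s, r (g x) = g x}
      one_mem' := ⟨R.one_mem, fun _ _ => rfl⟩
      mul_mem' := fun {a b} ha hb => ⟨R.mul_mem ha.1 hb.1, fun x hx => by
        rw [Perm.mul_apply, hb.2 x hx, ha.2 x hx]⟩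
      inv_mem' := fun {a} ha => ⟨R.inv_mem ha.1, fun x hx => Perm.inv_eq_iff_eq.2 (ha.2 x hx).symm⟩ }
  obtain ⟨w, hw, e⟩ := pn_stab (H := H) hp hg (fun k hk => ⟨hKR hk, fun x hx => h2 x hx k hk⟩)
    (fun k hk => ⟨R.mul_mem (R.mul_mem hg (hKR hk)) (R.inv_mem hg), fun x hx => by
      rw [Perm.mul_apply, Perm.mul_apply, show g⁻¹ (g x) = x by simp, h1 x hx k hk]⟩)
  refine ⟨w⁻¹ * g, R.mul_mem (R.inv_mem hw.1) hg, fun x => ?_, fun x hx => ?_⟩
  · rw [Perm.mul_apply, e, show g⁻¹ (g x) = x by simp]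
  · rw [Perm.mul_apply]
    exact Perm.inv_eq_iff_eq.2 (hw.2 x hx).symm

/-- `dl` is invariant under permutations preserving `F`. -/
theorem dl_image {K : Subgroup (Perm Ω)} {n : Perm Ω} (hn : ∀ x, Fx K (n x) ↔ Fx K x) (Γ : Finset Ω) :
    dl K (Γ.image n) = dl K Γ ∧ (Γ.image n ∩ fF K).card = (Γ ∩ fF K).card ∧
      (Γ.image n \ fF K).card = (Γ \ fF K).card := by
  have e1 : Γ.image n ∩ fF K = (Γ ∩ fF K).image n := by
    ext z
    simp only [Finset.mem_inter, Finset.mem_image, mem_fF]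
    constructor
    · rintro ⟨⟨a, ha, rfl⟩, h⟩
      exact ⟨a, ⟨ha, (hn a).1 h⟩, rfl⟩
    · rintro ⟨a, ⟨ha, h⟩, rfl⟩
      exact ⟨⟨a, ha, rfl⟩, (hn a).2 h⟩
  have e2 : Γ.image n \ fF K = (Γ \ fF K).image n := by
    ext z
    simp only [Finset.mem_sdiff, Finset.mem_image, mem_fF]
    constructor
    · rintro ⟨⟨a, ha, rfl⟩, h⟩
      exact ⟨a, ⟨ha, fun k => h ((hn a).2 k)⟩, rfl⟩
    · rintro ⟨a, ⟨ha, h⟩, rfl⟩
      exact ⟨⟨a, ha, rfl⟩, fun k => h ((hn a).1 k)⟩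
  have c1 : (Γ.image n ∩ fF K).card = (Γ ∩ fF K).card := by
    rw [e1, Finset.card_image_of_injective _ n.injective]
  have c2 : (Γ.image n \ fF K).card = (Γ \ fF K).card := by
    rw [e2, Finset.card_image_of_injective _ n.injective]
  exact ⟨by unfold dl; rw [c1, c2], c1, c2⟩

/-- orbits of point stabilisers are transported by `g ∈ R`. -/
theorem orb_st_image {R : Subgroup (Perm Ω)} {g : Perm Ω} (hg : g ∈ R) (x y : Ω) :
    orb (st R (g x)) (g y) = (orb (st R x) y).image g := by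
  ext z
  simp only [mem_orb, mem_st, Finset.mem_image]
  constructor
  · rintro ⟨a, ⟨ha, h1⟩, rfl⟩
    refine ⟨(g⁻¹ * a * g) y, ⟨g⁻¹ * a * g, ⟨R.mul_mem (R.mul_mem (R.inv_mem hg) ha) hg, ?_⟩, rfl⟩, ?_⟩
    · simp [h1]
    · simp
  · rintro ⟨_, ⟨a, ⟨ha, h1⟩, rfl⟩, rfl⟩
    refine ⟨g * a * g⁻¹, ⟨R.mul_mem (R.mul_mem hg ha) (R.inv_mem hg), ?_⟩, ?_⟩
    · simp [h1]
    · simp

/-- The theorem transported to an arbitrary action through a hom `φ : R →* Perm X`.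
Proof: apply `h` to `φ.range` and `(K.subgroupOf R).map φ`; pronormality: for `g ∈ R` the `w` of `hp g`
lies in `K ⊔ K^g ≤ R`; push everything through `φ` (easiest: an element of `K ⊔ K^g` lies in
the image under `R.subtype` of `K' ⊔ K'^g`, `K' = K.subgroupOf R`, by `Subgroup.map_sup`). -/
theorem Thm.act {X : Type} [Fintype X] [DecidableEq X] (h : Thm X) {K R : Subgroup (Perm Ω)}
    (hp : Pn K R) (hKR : K ≤ R) (φ : R →* Perm X) (htr : ∀ a b, ∃ g : R, φ g a = b)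
    (hnt : ∃ k : R, k.1 ∈ K ∧ φ k ≠ 1) (Y : Finset X)
    (hY : ∀ y ∈ Y, ∀ k : R, k.1 ∈ K → φ k y = y) : 2 * Y.card + 1 ≤ Fintype.card X := by
  have e0 : (K.subgroupOf R).map R.subtype = K := Subgroup.map_subgroupOf_eq_of_le hKR
  have := h φ.range ((K.subgroupOf R).map φ)
    (fun a b => by
      obtain ⟨g, hg⟩ := htr a b
      exact ⟨φ g, ⟨g, rfl⟩, hg⟩)
    (Subgroup.map_le_range _ _)
    (fun e => by
      obtain ⟨k, hk, h1⟩ := hnt
      have : φ k ∈ (K.subgroupOf R).map φ := ⟨k, hk, rfl⟩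
      rw [e, Subgroup.mem_bot] at this
      exact h1 this)
    (by
      rintro _ ⟨g, rfl⟩
      obtain ⟨w, hw, e⟩ := hp g.1 g.2
      have e1 : ∀ a : R, ((K.subgroupOf R).map (MulAut.conj a).toMonoidHom).map R.subtype =
          K.map (MulAut.conj a.1).toMonoidHom := fun a => by rw [api_map, e0]; rfl
      have e2 : (K.subgroupOf R ⊔ (K.subgroupOf R).map (MulAut.conj g).toMonoidHom).map R.subtype =
          K ⊔ K.map (MulAut.conj g.1).toMonoidHom := by rw [Subgroup.map_sup, e0, e1]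
      rw [← e2] at hw
      obtain ⟨w0, hw0, rfl⟩ := hw
      have e3 : (K.subgroupOf R).map (MulAut.conj w0).toMonoidHom =
          (K.subgroupOf R).map (MulAut.conj g).toMonoidHom :=
        Subgroup.map_injective R.subtype_injective (by rw [e1, e1]; exact e)
      refine ⟨φ w0, ?_, by rw [← api_map, ← api_map, e3]⟩
      rw [← api_map, ← Subgroup.map_sup]
      exact ⟨w0, hw0, rfl⟩)
  have h2 : Y ⊆ fF ((K.subgroupOf R).map φ) := fun y hy => mem_fF.2 (by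
    rintro _ ⟨k, hk, rfl⟩
    exact hY y hy k hk)
  have := Finset.card_le_card h2
  omega

/-- induction hypothesis on a proper orbit: `Thm.act` with `X = {y // y ∈ orb R x}`,
`φ g = g.1.subtypePerm _`; then `card_eq_dl`. -/
theorem Ce.orb_dl {G K R : Subgroup (Perm Ω)} (h : Ce G K) (hKR : K ≤ R) (hRG : R ≤ G) {x z : Ω}
    (hz : z ∉ orb R x) (hm : ∃ g ∈ R, ¬ Fx K (g x)) : 1 ≤ dl K (orb R x) := by
  have hi : ∀ g : R, ∀ y, g.1 y ∈ orb R x ↔ y ∈ orb R x := fun g y =>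
    ⟨fun k => by simpa using orb_inv (R.inv_mem g.2) k, fun k => orb_inv g.2 k⟩
  let φ : R →* Perm {y // y ∈ orb R x} :=
    { toFun := fun g => g.1.subtypePerm (hi g)
      map_one' := by ext y; rfl
      map_mul' := fun a b => by ext y; rfl }
  have hφ : ∀ (g : R) (y : {y // y ∈ orb R x}), (φ g y).1 = g.1 y.1 := fun _ _ => rfl
  have hc : Fintype.card {y // y ∈ orb R x} = (orb R x).card := Fintype.card_coe _
  have hlt : Fintype.card {y // y ∈ orb R x} < Fintype.card Ω := by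
    rw [hc]
    exact Finset.card_lt_univ_of_notMem hz
  have := (h.ih _ hlt).act (h.pn.mono hRG) hKR φ
    (fun a b => by
      obtain ⟨g, hg, e⟩ := mem_orb.1 ((orb_eq a.2).symm ▸ b.2 : b.1 ∈ orb R a.1)
      exact ⟨⟨g, hg⟩, Subtype.ext e⟩)
    (by
      obtain ⟨g, hg, n⟩ := hm
      unfold Fx at n
      push Not at n
      obtain ⟨k, hk, n⟩ := n
      refine ⟨⟨k, hKR hk⟩, hk, fun e => n ?_⟩
      have := hφ ⟨k, hKR hk⟩ ⟨g x, orb_inv hg (self_mem_orb R x)⟩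
      rw [e] at this
      exact this.symm)
    ((orb R x ∩ fF K).subtype (· ∈ orb R x))
    (fun y hy k hk => Subtype.ext (mem_fF.1 (Finset.mem_inter.1 (Finset.mem_subtype.1 hy)).2 k.1 hk))
  rw [hc, Finset.card_subtype, Finset.filter_true_of_mem fun y hy => (Finset.mem_inter.1 hy).1] at this
  have := card_eq_dl K (orb R x)
  omega

/-- proper `R`-invariant set none of whose orbits is inside `F`: induct on `Γ.card`, peeling off
`orb R x` with `dl_sdiff` and `Ce.orb_dl`. -/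
theorem Ce.inv_dl {G K R : Subgroup (Perm Ω)} (h : Ce G K) (hKR : K ≤ R) (hRG : R ≤ G) {z : Ω}
    (Γ : Finset Ω) (hz : z ∉ Γ) (hinv : ∀ g ∈ R, ∀ x ∈ Γ, g x ∈ Γ)
    (hm : ∀ x ∈ Γ, ∃ g ∈ R, ¬ Fx K (g x)) : 0 ≤ dl K Γ ∧ (Γ.Nonempty → 1 ≤ dl K Γ) := by
  induction Γ using Finset.strongInduction with
  | H Γ ih =>
    rcases Γ.eq_empty_or_nonempty with rfl | ⟨x, hx⟩
    · exact ⟨by rw [dl_empty], fun k => absurd k Finset.not_nonempty_empty⟩
    have h1 : orb R x ⊆ Γ := fun y hy => by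
      obtain ⟨g, hg, rfl⟩ := mem_orb.1 hy
      exact hinv g hg x hx
    have h2 := h.orb_dl hKR hRG (fun k => hz (h1 k)) (hm x hx)
    have h3 := (ih (Γ \ orb R x) (Finset.sdiff_ssubset h1 ⟨x, self_mem_orb R x⟩)
      (fun k => hz (Finset.mem_sdiff.1 k).1)
      (fun g hg y hy => Finset.mem_sdiff.2 ⟨hinv g hg y (Finset.mem_sdiff.1 hy).1, fun k =>
        (Finset.mem_sdiff.1 hy).2 (by simpa using orb_inv (R.inv_mem hg) k)⟩)
      (fun y hy => hm y (Finset.mem_sdiff.1 hy).1)).1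
    have h4 := dl_sdiff K h1
    exact ⟨by omega, fun _ => by omega⟩

/-- a `K`-invariant set with `dl = 1` has odd size `≥ 3` and contains fixed and moved points
(if it had no fixed point it would be a single point, which `K` preserves). -/
theorem dl_one {K : Subgroup (Perm Ω)} {A : Finset Ω} (hinv : ∀ k ∈ K, ∀ x ∈ A, k x ∈ A)
    (hd : dl K A = 1) : 3 ≤ A.card ∧ A.card = 2 * (A ∩ fF K).card + 1 ∧
      (A \ fF K).card = (A ∩ fF K).card + 1 ∧ (∃ x ∈ A, Fx K x) ∧ ∃ x ∈ A, ¬ Fx K x := by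
  have h1 := card_eq_dl K A
  have h2 := hd
  unfold dl at h2
  have h3 : 0 < (A ∩ fF K).card := by
    by_contra n
    have h4 : A.card = 1 := by omega
    obtain ⟨a, rfl⟩ := Finset.card_eq_one.1 h4
    exact n (Finset.card_pos.2 ⟨a, Finset.mem_inter.2 ⟨Finset.mem_singleton_self a, mem_fF.2 fun k hk =>
      Finset.mem_singleton.1 (hinv k hk a (Finset.mem_singleton_self a))⟩⟩)
  obtain ⟨x, hx⟩ := Finset.card_pos.1 h3
  obtain ⟨y, hy⟩ := Finset.card_pos.1 (show 0 < (A \ fF K).card by omega)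
  exact ⟨by omega, by omega, by omega, ⟨x, (Finset.mem_inter.1 hx).1, mem_fF.1 (Finset.mem_inter.1 hx).2⟩,
    y, (Finset.mem_sdiff.1 hy).1, fun k => (Finset.mem_sdiff.1 hy).2 (mem_fF.2 k)⟩

end Cfsg.Agent.Prae
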