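import Cfsg.Agent.Prae.L3

set_option autoImplicit false

namespace Cfsg.Agent.Prae
open Equiv

variable {Ω : Type} [Fintype Ω] [DecidableEq Ω]

/-- Three `L`-orbits `A i = orb L (x i)` with `dl = 1`. For `p ≠ q` in `O` say `(p,q)` has type `i` if `∃ g ∈ R, g γ = p ∧ g (x i) = q`; every such pair has exactly one type
(`H3.mem_O`, `cov`, `hdis`), types are `R`-invariant. By `Ce.p1` all pairs of distinct points of `A j` have one type `Δ j` (`|A j| ≥ 3`, `dl_one`), and `Δ j ≠ j` (`H3.nopair`).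
A fixed-point-free `Δ : Fin 3 → Fin 3` has a `j` with `Δ j' = Δ j → j' = j` (`decide`). Take `z ∈ A j` moved by `k ∈ K`, `z' = k z ∈ A j`: `(z,z')` has type `Δ j`.
For `y ∈ O ∩ F`: `(y,z)` and `(y,z') = k (y,z)` have the same type `j'`; moving `y` to `γ` by `R`, `z, z'` become two distinct points of `A j'`, so `Δ j' = Δ j`, `j' = j`.
So all `(y,z)`, `y ∈ O ∩ F`, have type `j`. Take `t ∈ R` with `t z = γ`: all `t y` lie in one `L`-orbit `A l` (if `g₁ (γ, x j) = (y₁,z)`, `g₂ (γ, x j) = (y₂,z)` then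
`t g₂ g₁⁻¹ t⁻¹ ∈ L` maps `t y₁` to `t y₂`). So all pairs of distinct points of `O ∩ F` have type `Δ l`. But `γ ∈ O ∩ F` and each `A i` has a point `w i ∈ F` (`dl_one`),
`(γ, w i)` of type `i` for `i = 0, 1`. Contradiction. -/
theorem H3.c111 {G K : Subgroup (Perm Ω)} {α β γ : Ω} (h : H3 G K α β γ) (x : Fin 3 → Ω)
    (xa : ∀ i, x i ≠ α) (xb : ∀ i, x i ≠ β) (xc : ∀ i, x i ≠ γ)
    (cov : ∀ z, z ≠ α → z ≠ β → z ≠ γ → ∃ i, z ∈ orb (st (st (st G α) β) γ) (x i))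
    (hdis : ∀ i j, x j ∈ orb (st (st (st G α) β) γ) (x i) → i = j)
    (hd : ∀ i, dl K (orb (st (st (st G α) β) γ) (x i)) = 1) : False := by
  have mO := h.mem_O
  have np := fun i p q => h.nopair (xa i) (xb i) (xc i) (hd i) (p := p) (q := q)
  have KR := h.le2
  have KL := h.le3
  have hle : st (st (st G α) β) γ ≤ G := (st_le _ _).trans ((st_le _ _).trans (st_le _ _))
  have p1 := fun i => h.ce.p1 KL hle (x := x i) (z := γ)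
  have Ra : ∀ g ∈ st (st G α) β, g α = α := fun g hg => (mem_st.1 (mem_st.1 hg).1).2
  have Rb : ∀ g ∈ st (st G α) β, g β = β := fun g hg => (mem_st.1 hg).2
  generalize st (st G α) β = R at *
  let Ty : Fin 3 → Ω → Ω → Prop := fun i p q => ∃ g ∈ R, g γ = p ∧ g (x i) = q
  have ne : ∀ g ∈ R, ∀ {z c}, g c = c → z ≠ c → g z ≠ c := fun g _ z c e n e' => n (g.injective (e'.trans e.symm))
  have oi : ∀ g ∈ R, ∀ z, z ≠ α ∧ z ≠ β → g z ≠ α ∧ g z ≠ β := fun g hg z hz =>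
    ⟨ne g hg (Ra g hg) hz.1, ne g hg (Rb g hg) hz.2⟩
  have AO : ∀ i, ∀ z ∈ orb (st R γ) (x i), (z ≠ α ∧ z ≠ β) ∧ z ≠ γ := fun i z hz => by
    obtain ⟨g, hg, rfl⟩ := mem_orb.1 hz
    exact ⟨oi g (st_le _ _ hg) _ ⟨xa i, xb i⟩, ne g (st_le _ _ hg) (mem_st.1 hg).2 (xc i)⟩
  have T3 : ∀ {i p q}, ∀ g ∈ R, Ty i p q → Ty i (g p) (g q) := by
    rintro i _ _ g hg ⟨u, hu, rfl, rfl⟩
    exact ⟨g * u, mul_mem hg hu, rfl, rfl⟩
  have T3' : ∀ {i p q}, ∀ g ∈ R, Ty i (g p) (g q) → Ty i p q := fun g hg e => by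
    simpa using T3 g⁻¹ (inv_mem hg) e
  have T4 : ∀ {i q}, Ty i γ q ↔ q ∈ orb (st R γ) (x i) := by
    intro i q
    rw [mem_orb]
    exact ⟨fun ⟨g, h1, h2, h3⟩ => ⟨g, mem_st.2 ⟨h1, h2⟩, h3⟩,
      fun ⟨g, h1, h3⟩ => ⟨g, (mem_st.1 h1).1, (mem_st.1 h1).2, h3⟩⟩
  have T1 : ∀ {p q}, p ≠ α ∧ p ≠ β → q ≠ α ∧ q ≠ β → p ≠ q → ∃ i, Ty i p q := by
    intro p q hp hq n
    obtain ⟨g, hg, rfl⟩ := mem_orb.1 ((mO p).2 hp)
    have := oi g⁻¹ (inv_mem hg) q hq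
    obtain ⟨i, hi⟩ := cov (g⁻¹ q) this.1 this.2 fun e => n (by rw [← e]; simp)
    exact ⟨i, by simpa using T3 g hg (T4.2 hi)⟩
  have T2 : ∀ {i j p q}, Ty i p q → Ty j p q → i = j := by
    rintro i j _ _ ⟨g, hg, rfl, rfl⟩ ⟨u, hu, e1, e2⟩
    exact hdis i j (mem_orb.2 ⟨u⁻¹ * g, mem_st.2 ⟨mul_mem (inv_mem hu) hg, by simp [← e1]⟩, by simp [← e2]⟩)
  have d1 := fun i => (dl_one (fun k hk z hz => orb_inv (KL hk) hz) (hd i)).2.2.2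
  have hΔ : ∀ j, ∃ d, d ≠ j ∧ ∀ p ∈ orb (st R γ) (x j), ∀ q ∈ orb (st R γ) (x j), p ≠ q → Ty d p q := by
    intro j
    obtain ⟨⟨p, hp, fp⟩, q, hq, fq⟩ := d1 j
    have n : p ≠ q := fun e => fq (e ▸ fp)
    obtain ⟨d, e⟩ := T1 (AO j p hp).1 (AO j q hq).1 n
    refine ⟨d, fun c => np j p q hp hq (c ▸ e), fun p' hp' q' hq' n' => ?_⟩
    obtain ⟨g, hg, rfl, rfl⟩ := p1 j (fun c => (AO j γ c).2 rfl) (hd j) p hp q hq p' hp' q' hq' n n'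
    exact T3 g (st_le _ _ hg) e
  choose Δ Δ1 Δ2 using hΔ
  obtain ⟨j, hj⟩ : ∃ j, ∀ j', Δ j' = Δ j → j' = j := by
    clear Δ2
    revert Δ
    decide
  obtain ⟨z, hz, fz⟩ := (d1 j).2
  obtain ⟨k, hk, kz⟩ : ∃ k ∈ K, k z ≠ z := by
    by_contra c
    push Not at c
    exact fz c
  have zz := Δ2 j z hz (k z) (orb_inv (KL hk) hz) kz.symm
  have c1 : ∀ y, y ≠ α ∧ y ≠ β → Fx K y → Ty j y z := fun y hy fy => by
    obtain ⟨j', e⟩ := T1 hy (AO j z hz).1 fun c => fz (c ▸ fy)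
    have e' := T3 k (KR hk) e
    rw [fy k hk] at e'
    obtain ⟨g, hg, rfl⟩ := mem_orb.1 ((mO y).2 hy)
    have a1 : g⁻¹ z ∈ orb (st R γ) (x j') := T4.1 (by simpa using T3 g⁻¹ (inv_mem hg) e)
    have a2 : g⁻¹ (k z) ∈ orb (st R γ) (x j') := T4.1 (by simpa using T3 g⁻¹ (inv_mem hg) e')
    have := T3' g⁻¹ (inv_mem hg) (Δ2 j' _ a1 _ a2 fun c => kz (g⁻¹.injective c).symm)
    exact hj j' (T2 this zz) ▸ e
  obtain ⟨t, ht, tz⟩ := mem_orb.1 (orb_symm ((mO z).2 (AO j z hz).1))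
  have γO : γ ≠ α ∧ γ ≠ β := ⟨h.ac.symm, h.bc.symm⟩
  obtain ⟨l, hl⟩ := cov (t γ) (oi t ht γ γO).1 (oi t ht γ γO).2 fun c =>
    (AO j z hz).2 (t.injective (tz.trans c.symm))
  have c2 : ∀ i, i = Δ l := fun i => by
    obtain ⟨w, hw, fw⟩ := (d1 i).1
    obtain ⟨g₁, a1, a2, a3⟩ := c1 γ γO h.fc
    obtain ⟨g₂, b1, b2, b3⟩ := c1 w (AO i w hw).1 fw
    have m : t * g₂ * g₁⁻¹ * t⁻¹ ∈ st R γ := mem_st.2
      ⟨mul_mem (mul_mem (mul_mem ht b1) (inv_mem a1)) (inv_mem ht), by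
        have e1 : t⁻¹ γ = z := by rw [← tz]; simp
        have e2 : g₁⁻¹ z = x j := by rw [← a3]; simp
        simp only [Perm.mul_apply, e1, e2, b3, tz]⟩
    have m2 := orb_inv m hl
    have e2 : g₁⁻¹ γ = γ := by rw [Perm.inv_eq_iff_eq, a2]
    rw [show (t * g₂ * g₁⁻¹ * t⁻¹) (t γ) = t w by simp [Perm.mul_apply, e2, b2]] at m2
    exact T2 (T4.2 hw) (T3' t ht (Δ2 l _ hl _ m2 fun c => (AO i w hw).2 (t.injective c).symm))
  exact absurd ((c2 0).trans (c2 1).symm) (by decide)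

end Cfsg.Agent.Prae
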