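import Cfsg.Agent.Prae.L3

set_option autoImplicit false

namespace Cfsg.Agent.Prae
open Equiv

variable {Ω : Type} [Fintype Ω] [DecidableEq Ω]

/-! `E = E4 G α β γ x`, `A = orb L x` (odd size, `dl_one`), `B = orb L y` (even size, `card_eq_dl`). -/

theorem H12.ne {G K : Subgroup (Perm Ω)} {α β γ x y p q r s : Ω} (h : H12 G K α β γ x y)
    (e : E4 G α β γ x p q r s) : p ≠ q ∧ p ≠ r ∧ p ≠ s ∧ q ≠ r ∧ q ≠ s ∧ r ≠ s := by
  obtain ⟨g, -, rfl, rfl, rfl, rfl⟩ := e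
  exact ⟨g.injective.ne h.ab, g.injective.ne h.ac, g.injective.ne h.xa.symm, g.injective.ne h.bc,
    g.injective.ne h.xb.symm, g.injective.ne h.xc.symm⟩

theorem E4.smul {G : Subgroup (Perm Ω)} {α β γ x p q r s : Ω} {g : Perm Ω} (hg : g ∈ G) :
    E4 G α β γ x (g p) (g q) (g r) (g s) ↔ E4 G α β γ x p q r s := by
  constructor
  · rintro ⟨k, hk, e1, e2, e3, e4⟩
    exact ⟨g⁻¹ * k, G.mul_mem (G.inv_mem hg) hk, by simp [e1], by simp [e2], by simp [e3], by simp [e4]⟩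
  · rintro ⟨k, hk, rfl, rfl, rfl, rfl⟩
    exact ⟨g * k, G.mul_mem hg hk, rfl, rfl, rfl, rfl⟩

theorem E4.iff_orb {G : Subgroup (Perm Ω)} {α β γ x s : Ω} :
    E4 G α β γ x α β γ s ↔ s ∈ orb (st (st (st G α) β) γ) x := by
  simp only [E4, mem_orb, mem_st, and_assoc]

/-- two orbits on 4-tuples (`Tr.three`, `cov`) -/
theorem H12.or {G K : Subgroup (Perm Ω)} {α β γ x y p q r s : Ω} (h : H12 G K α β γ x y)
    (h1 : p ≠ q) (h2 : p ≠ r) (h3 : p ≠ s) (h4 : q ≠ r) (h5 : q ≠ s) (h6 : r ≠ s) :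
    E4 G α β γ x p q r s ∨ E4 G α β γ y p q r s := by
  obtain ⟨g, hg, rfl, rfl, rfl⟩ := h.t3.three h.ab h.ac h.bc h1 h2 h4
  obtain ⟨z, rfl⟩ := g.surjective s
  rw [E4.smul hg, E4.smul hg, E4.iff_orb, E4.iff_orb]
  exact h.cov z (fun e => h3 (e ▸ rfl)) (fun e => h5 (e ▸ rfl)) fun e => h6 (e ▸ rfl)

theorem c12a_os (R : Subgroup (Perm Ω)) (x : Ω) : Nat.card (st R x) * (orb R x).card = Nat.card R := by
  have h1 : MulAction.stabilizer R x = (st R x).subgroupOf R := by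
    ext g
    rw [Subgroup.mem_subgroupOf, mem_st]
    exact ⟨fun h => ⟨g.2, h⟩, fun h => h.2⟩
  have h2 : MulAction.orbit R x = orb R x := by
    ext y
    rw [Finset.mem_coe, mem_orb]
    exact ⟨fun ⟨g, h⟩ => ⟨g, g.2, h⟩, fun ⟨g, hg, h⟩ => ⟨⟨g, hg⟩, h⟩⟩
  rw [← (MulAction.stabilizer R x).card_mul_index, MulAction.index_stabilizer, h2, Set.ncard_coe_finset,
    h1, Nat.card_congr (Subgroup.subgroupOfEquivOfLe (st_le R x)).toEquiv]

theorem c12a_inv {G : Subgroup (Perm Ω)} {α β γ x p q r s : Ω} (e : E4 G α β γ x p q r s) :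
    Nat.card (st (st (st (st G p) q) r) s) = Nat.card (st (st (st (st G α) β) γ) x) := by
  obtain ⟨g, hg, rfl, rfl, rfl, rfl⟩ := e
  refine Nat.card_congr ((MulAut.conj g⁻¹).toEquiv.subtypeEquiv fun k => ?_)
  simp [Equiv.symm_apply_eq, G.mul_mem_cancel_left (G.inv_mem hg), G.mul_mem_cancel_right hg]

theorem H12.c12a_of {G K : Subgroup (Perm Ω)} {α β γ x y p q r s p' q' r' s' : Ω}
    (h : H12 G K α β γ x y) (e : E4 G α β γ x p q r s) (o : E4 G α β γ x p' q' r' s' ∨ E4 G α β γ y p' q' r' s')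
    (c : st (st (st (st G p') q') r') s' = st (st (st (st G p) q) r) s) : E4 G α β γ x p' q' r' s' := by
  refine o.resolve_right fun e' => ?_
  have h1 := c12a_os (st (st (st G α) β) γ) x
  rw [← c12a_os (st (st (st G α) β) γ) y, ← c12a_inv e', c, c12a_inv e] at h1
  have h2 := Nat.eq_of_mul_eq_mul_left Nat.card_pos h1
  have h3 := card_eq_dl K (orb (st (st (st G α) β) γ) x)
  have h4 := card_eq_dl K (orb (st (st (st G α) β) γ) y)
  rw [h.dx, h2] at h3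
  rw [h.dy] at h4
  omega

/-- Symmetry. Let `c p q r s = |{g ∈ GF G | g fixes p, q, r, s}|`: symmetric in its arguments and `G`-invariant (conjugation). Orbit–stabiliser in `L`:
`c α β γ x · |A| = |L| = c α β γ y · |B|`, `|A| ≠ |B|` by parity, so `c α β γ x ≠ c α β γ y`; with `H12.or`: for distinct points `E p q r s ↔ c p q r s = c α β γ x`. -/
theorem H12.sw {G K : Subgroup (Perm Ω)} {α β γ x y p q r s : Ω} (h : H12 G K α β γ x y)
    (e : E4 G α β γ x p q r s) :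
    E4 G α β γ x q p r s ∧ E4 G α β γ x p r q s ∧ E4 G α β γ x p q s r := by
  obtain ⟨h1, h2, h3, h4, h5, h6⟩ := h.ne e
  refine ⟨h.c12a_of e (h.or h1.symm h4 h5 h2 h3 h6) ?_, h.c12a_of e (h.or h2 h1 h3 h4.symm h6 h5) ?_,
    h.c12a_of e (h.or h1 h3 h2 h5 h4 h6.symm) ?_⟩
  all_goals
    ext g
    simp only [mem_st]
    tauto

/-- no triangles: move `(p,q,r)` to `(α,β,γ)`, then `H3.nopair`. -/
theorem H12.tri {G K : Subgroup (Perm Ω)} {α β γ x y p q r s t : Ω} (h : H12 G K α β γ x y)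
    (e1 : E4 G α β γ x p q r s) (e2 : E4 G α β γ x p q r t) (e3 : E4 G α β γ x p q s t) : False := by
  obtain ⟨g, hg, rfl, rfl, rfl, rfl⟩ := e1
  obtain ⟨z, rfl⟩ := g.surjective t
  rw [E4.smul hg] at e2 e3
  obtain ⟨k, hk, a1, a2, a3, a4⟩ := e3
  exact h.toH3.nopair h.xa h.xb h.xc h.dx (self_mem_orb _ _) (E4.iff_orb.1 e2)
    ⟨k, mem_st.2 ⟨mem_st.2 ⟨hk, a1⟩, a2⟩, a3, a4⟩

end Cfsg.Agent.Prae
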