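import Cfsg.Agent.Prae.C12a

set_option autoImplicit false

namespace Cfsg.Agent.Prae
open Equiv

variable {Ω : Type} [Fintype Ω] [DecidableEq Ω]

/-- Graph on `O = univ \ {α,β}`: `p ~ q` iff `E α β p q`; symmetric (`H12.sw`), triangle-free (`H12.tri`), `R` acts by automorphisms, transitively on vertices and on
ordered non-adjacent pairs (`H12.or`); `N γ = A`, so every `|N p| = a = 2f+1 ≥ 3`; the non-neighbours of `γ` are `B`, `b = |B|`, `2h = n = a + b + 3`.
Let `μ = |N γ ∩ N y|` = number of common neighbours of any non-adjacent pair. Suppose `s ~ t`, both non-adjacent to `z` (move `z` to `γ`: `s,t ∈ B`).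
(1) `N s ∩ N z`, `N t ∩ N z` are disjoint subsets of `N z`: `2μ ≤ a`, so `2μ ≤ a - 1`. (2) `b ≥ a`: `N x \ {γ} ⊆ B` has `a-1` points and no edge, so is a proper subset of `B`.
(3) `w ∉ F`, `k ∈ K`, `k w ≠ w`: `N w ∩ F = N (k w) ∩ F`, so `|N w ∩ F| ≤ μ` (`= 0` if `w ~ k w`). (4) `p ∈ O ∩ F` (`h - 2` points): `witt` in `R` (`s = {γ}`) gives `n ∈ R` preserving `F`,
`n γ = p`, `N p = A.image n`, so `|N p \ F| = f + 1` (`dl_image`, `dl_one`). Double counting edges between `O ∩ F` and `Fᶜ` (`h` points): `(h-2)(f+1) ≤ h μ ≤ h f`, so `h ≤ 2f + 2 = a + 1`;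
but `2h = a + b + 3 ≥ 2a + 3`. -/
theorem H12.edge {G K : Subgroup (Perm Ω)} {α β γ x y z s t : Ω} (h : H12 G K α β γ x y)
    (za : z ≠ α) (zb : z ≠ β) (zs : z ≠ s) (zt : z ≠ t) (e : E4 G α β γ x α β s t)
    (n1 : ¬ E4 G α β γ x α β z s) (n2 : ¬ E4 G α β γ x α β z t) : False := by
  classical
  obtain ⟨N, hN⟩ : ∃ N : Ω → Finset Ω, ∀ p q, q ∈ N p ↔ E4 G α β γ x α β p q :=
    ⟨fun p => Finset.univ.filter (E4 G α β γ x α β p), fun p q => by simp⟩
  rw [← hN] at e n1 n2
  have sym : ∀ {p q}, q ∈ N p → p ∈ N q := fun e => (hN _ _).2 (h.sw ((hN _ _).1 e)).2.2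
  have tri : ∀ {r s t}, s ∈ N r → t ∈ N r → t ∈ N s → False := fun e1 e2 e3 =>
    h.tri ((hN _ _).1 e1) ((hN _ _).1 e2) ((hN _ _).1 e3)
  have ne : ∀ {p q}, q ∈ N p → q ≠ α ∧ q ≠ β ∧ q ≠ p := fun e => by
    obtain ⟨-, -, h1, -, h2, h3⟩ := h.ne ((hN _ _).1 e)
    exact ⟨h1.symm, h2.symm, h3.symm⟩
  have smul : ∀ {g}, g ∈ st (st G α) β → ∀ p q, g q ∈ N (g p) ↔ q ∈ N p := fun {g} hg p q => by
    simp only [mem_st] at hg
    rw [hN, hN, ← E4.smul (p := α) (q := β) (r := p) (s := q) hg.1.1, hg.1.2, hg.2]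
  have img : ∀ {g}, g ∈ st (st G α) β → ∀ p, N (g p) = (N p).image g := fun {g} hg p => by
    ext q
    rw [Finset.mem_image]
    refine ⟨fun hq => ⟨g⁻¹ q, (smul hg _ _).1 (by simpa using hq), by simp⟩, ?_⟩
    rintro ⟨r, hr, rfl⟩
    exact (smul hg _ _).2 hr
  have NA : N γ = orb (st (st (st G α) β) γ) x := by ext q; rw [hN, E4.iff_orb]
  obtain ⟨d1, d2, d3, -⟩ := dl_one (K := K) (A := N γ)
    (fun k hk q hq => by rw [NA] at hq ⊢; exact orb_inv (h.le3 hk) hq) (NA ▸ h.dx)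
  generalize (N γ ∩ fF K).card = f at d2 d3
  have ca : ∀ {p}, p ≠ α → p ≠ β → (N p).card = 2 * f + 1 := fun {p} h1 h2 => by
    obtain ⟨g, hg, rfl⟩ := mem_orb.1 ((h.mem_O p).2 ⟨h1, h2⟩)
    rw [img hg, Finset.card_image_of_injective _ g.injective, d2]
  have cm : ∀ {p q}, p ≠ α → p ≠ β → q ≠ α → q ≠ β → p ≠ q → q ∉ N p → (N p ∩ N q).card = (N γ ∩ N y).card :=
    fun {p q} h1 h2 h3 h4 h5 h6 => by
      obtain ⟨g, hg, e1, e2, rfl, rfl⟩ := (h.or h.ab h1.symm h3.symm h2.symm h4.symm h5).resolve_left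
        fun e => h6 ((hN _ _).2 e)
      have hg' : g ∈ st (st G α) β := by simp [hg, e1, e2]
      rw [img hg', img hg', ← Finset.image_inter _ _ g.injective, Finset.card_image_of_injective _ g.injective]
  obtain ⟨ta, tb, -⟩ := ne e
  obtain ⟨sa, sb, -⟩ := ne (sym e)
  have m1 : (N γ ∩ N y).card ≤ f := by
    have a1 := cm za zb sa sb zs n1
    have a2 := cm za zb ta tb zt n2
    have a3 := Finset.card_le_card (show N z ∩ N s ∪ N z ∩ N t ⊆ N z from
      Finset.union_subset Finset.inter_subset_left Finset.inter_subset_left)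
    rw [Finset.card_union_of_disjoint (Finset.disjoint_left.2 fun w h1 h2 =>
      tri e (Finset.mem_inter.1 h1).2 (Finset.mem_inter.1 h2).2), ca za zb] at a3
    omega
  have m2 : 4 * f + 5 ≤ Fintype.card Ω := by
    obtain ⟨u, hu⟩ := Finset.card_pos.1 (show 0 < (N z).card by rw [ca za zb]; omega)
    obtain ⟨ua, ub, -⟩ := ne hu
    have a1 : (insert α (insert β (insert z (N z)))).card = 2 * f + 4 := by
      rw [Finset.card_insert_of_notMem, Finset.card_insert_of_notMem, Finset.card_insert_of_notMem, ca za zb]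
      · exact fun e => (ne e).2.2 rfl
      · simp only [Finset.mem_insert, not_or]
        exact ⟨zb.symm, fun e => (ne e).2.1 rfl⟩
      · simp only [Finset.mem_insert, not_or]
        exact ⟨h.ab, za.symm, fun e => (ne e).1 rfl⟩
    have a2 : (N u).erase z ⊂ (insert α (insert β (insert z (N z))))ᶜ := by
      refine Finset.ssubset_iff_subset_ne.2 ⟨fun w hw => ?_, fun e' => ?_⟩
      · obtain ⟨w1, w2⟩ := Finset.mem_erase.1 hw
        simp only [Finset.mem_compl, Finset.mem_insert, not_or]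
        exact ⟨(ne w2).1, (ne w2).2.1, w1, fun w3 => tri hu w3 w2⟩
      · refine tri (r := u) (Finset.mem_of_mem_erase (e'.ge ?_)) (Finset.mem_of_mem_erase (e'.ge ?_)) e
        · simp only [Finset.mem_compl, Finset.mem_insert, not_or]
          exact ⟨sa, sb, zs.symm, n1⟩
        · simp only [Finset.mem_compl, Finset.mem_insert, not_or]
          exact ⟨ta, tb, zt.symm, n2⟩
    have a3 := Finset.card_lt_card a2
    rw [Finset.card_compl, a1, Finset.card_erase_of_mem (sym hu), ca ua ub] at a3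
    omega
  have m3 := Finset.card_mul_le_card_mul (s := ((fF K).erase α).erase β) (t := (fF K)ᶜ) (m := f + 1) (n := f)
    (fun p q => q ∈ N p) (fun p hp => by
      simp only [Finset.mem_erase, mem_fF] at hp
      obtain ⟨g, hg, e1⟩ := mem_orb.1 ((h.mem_O p).2 ⟨hp.2.1, hp.1⟩)
      obtain ⟨n, hn, b1, b2⟩ := witt (h.ce.pn.mono ((st_le _ _).trans (st_le _ _))) h.le2 hg {γ}
        (by rintro _ rfl; exact h.fc) (by rintro _ rfl; exact e1 ▸ hp.2.2)
      rw [← d3, ← (dl_image b1 (N γ)).2.2, ← img hn, b2 γ rfl, e1]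
      refine Finset.card_le_card fun q hq => ?_
      obtain ⟨q1, q2⟩ := Finset.mem_sdiff.1 hq
      exact (Finset.mem_bipartiteAbove _).2 ⟨Finset.mem_compl.2 q2, q1⟩) (fun w hw => by
      have hw' : ¬ Fx K w := fun e => Finset.mem_compl.1 hw (mem_fF.2 e)
      obtain ⟨k, hk, kw⟩ : ∃ k ∈ K, k w ≠ w := by
        by_contra hc
        push Not at hc
        exact hw' hc
      have wa : w ≠ α := fun e => hw' (e ▸ h.fa)
      have wb : w ≠ β := fun e => hw' (e ▸ h.fb)
      have a1 : (((fF K).erase α).erase β).bipartiteBelow (fun p q => q ∈ N p) w ⊆ N w ∩ N (k w) := by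
        intro p hp
        obtain ⟨p1, p2⟩ := (Finset.mem_bipartiteBelow _).1 hp
        simp only [Finset.mem_erase, mem_fF] at p1
        refine Finset.mem_inter.2 ⟨sym p2, ?_⟩
        rw [← p1.2.2 k hk]
        exact (smul (h.le2 hk) _ _).2 (sym p2)
      refine (Finset.card_le_card a1).trans ?_
      by_cases a2 : k w ∈ N w
      · rw [Finset.eq_empty_of_forall_notMem fun p hp =>
          tri a2 (Finset.mem_inter.1 hp).1 (Finset.mem_inter.1 hp).2]
        simp
      · rw [cm wa wb (fun e => wa (k.injective (e.trans (h.fa k hk).symm)))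
          (fun e => wb (k.injective (e.trans (h.fb k hk).symm))) kw.symm a2]
        exact m1)
  have hn := h.hn
  rw [Finset.card_erase_of_mem (Finset.mem_erase.2 ⟨h.ab.symm, mem_fF.2 h.fb⟩),
    Finset.card_erase_of_mem (mem_fF.2 h.fa), Finset.card_compl] at m3
  obtain ⟨c, hc⟩ : ∃ c, (fF K).card = c + 2 := ⟨(fF K).card - 2, by omega⟩
  rw [← hn, hc, show c + 2 - 1 - 1 = c by omega, show 2 * (c + 2) - (c + 2) = c + 2 by omega, mul_add,
    add_mul] at m3
  omega

end Cfsg.Agent.Prae
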