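import Cfsg.Agent.Prae.Api

set_option autoImplicit false
set_option linter.unusedSectionVars false

namespace Cfsg.Agent.Prae
open Equiv

variable {Ω : Type} [Fintype Ω] [DecidableEq Ω]

/-- `Rl` is symmetric on an orbit. Proof: `B z = {g ∈ GF R | Fx K (g z)}`; `B x ⊆ B y`, and
`|B x| = |B y|` via `g ↦ g * t` where `t x = y`, `t ∈ R`; so `B x = B y`. -/
theorem rl_symm {K R : Subgroup (Perm Ω)} {x y : Ω} (hy : y ∈ orb R x) (h : Rl K R x y) :
    Rl K R y x := by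
  classical
  obtain ⟨t, ht, rfl⟩ := mem_orb.1 hy
  have h1 : (GF R).filter (fun g => Fx K (g x)) ⊆ (GF R).filter (fun g => Fx K (g (t x))) := by
    intro g hg
    simp only [Finset.mem_filter, mem_GF] at hg ⊢
    exact ⟨hg.1, h g hg.1 hg.2⟩
  have h2 := Finset.eq_of_subset_of_card_le h1 (Finset.card_le_card_of_injOn (· * t) (by
    intro g hg
    simp only [Finset.coe_filter, mem_GF, Set.mem_ofPred_eq] at hg ⊢
    exact ⟨R.mul_mem hg.1 ht, hg.2⟩) fun a _ b _ e => mul_right_cancel e)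
  intro g hg hf
  have : g ∈ (GF R).filter (fun g => Fx K (g x)) := h2 ▸ Finset.mem_filter.2 ⟨mem_GF.2 hg, hf⟩
  exact (Finset.mem_filter.1 this).2

theorem rl_smul {K R : Subgroup (Perm Ω)} {x y : Ω} {g : Perm Ω} (hg : g ∈ R) :
    Rl K R (g x) (g y) ↔ Rl K R x y := by
  refine ⟨fun h a ha hf => ?_, fun h a ha hf => h (a * g) (R.mul_mem ha hg) hf⟩
  simpa using h (a * g⁻¹) (R.mul_mem ha (R.inv_mem hg)) (by simpa using hf)

/-- for a fixed point `x`: `Rl x y` iff the `R_x`-orbit of `y` lies in `F`.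
(←): `g ∈ R`, `g x ∈ F`: `witt` with `s = {x}` gives `n ∈ R` preserving `F`, `n x = g x`; `w = n⁻¹ g` fixes `x`. -/
theorem rl_iff {K R : Subgroup (Perm Ω)} (hp : Pn K R) (hKR : K ≤ R) {x y : Ω} (hx : Fx K x) :
    Rl K R x y ↔ ∀ w ∈ st R x, Fx K (w y) := by
  refine ⟨fun h w hw => h w (mem_st.1 hw).1 (by rw [(mem_st.1 hw).2]; exact hx), fun h g hg hf => ?_⟩
  obtain ⟨n, hn, h1, h2⟩ := witt hp hKR hg {x} (by rintro _ rfl; exact hx) (by rintro _ rfl; exact hf)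
  have h3 := h (n⁻¹ * g) (mem_st.2 ⟨R.mul_mem (R.inv_mem hn) hg, by
    rw [Perm.mul_apply, ← h2 x rfl]; simp⟩)
  simpa using (h1 _).2 h3

theorem self_mem_cl (K R : Subgroup (Perm Ω)) (x : Ω) : x ∈ cl K R x :=
  mem_cl.2 ⟨self_mem_orb R x, fun _ _ h => h⟩

theorem cl_image {K R : Subgroup (Perm Ω)} {g : Perm Ω} (hg : g ∈ R) (x : Ω) :
    cl K R (g x) = (cl K R x).image g := by
  have h0 : orb R (g x) = orb R x := orb_eq (orb_inv hg (self_mem_orb R x))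
  ext z
  simp only [mem_cl, Finset.mem_image, h0]
  constructor
  · rintro ⟨h1, h2⟩
    refine ⟨g⁻¹ z, ⟨orb_inv (R.inv_mem hg) h1, (rl_smul hg).1 ?_⟩, by simp⟩
    simpa using h2
  · rintro ⟨y, ⟨h1, h2⟩, rfl⟩
    exact ⟨orb_inv hg h1, (rl_smul hg).2 h2⟩

theorem cl_eq {K R : Subgroup (Perm Ω)} {x y : Ω} (hy : y ∈ cl K R x) : cl K R y = cl K R x := by
  obtain ⟨h1, h2⟩ := mem_cl.1 hy
  have h3 := rl_symm h1 h2
  ext z
  simp only [mem_cl, orb_eq h1]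
  exact and_congr Iff.rfl ⟨fun h g hg hf => h g hg (h2 g hg hf), fun h g hg hf => h g hg (h3 g hg hf)⟩

theorem cl_dvd_of {K R : Subgroup (Perm Ω)} {x : Ω} {A : Finset Ω} (h1 : A ⊆ orb R x)
    (h2 : ∀ y ∈ A, cl K R y ⊆ A) : (cl K R x).card ∣ A.card := by
  rw [Finset.card_eq_sum_card_image (cl K R) A]
  refine Finset.dvd_sum fun b hb => ?_
  obtain ⟨y, hy, rfl⟩ := Finset.mem_image.1 hb
  have e : A.filter (fun a => cl K R a = cl K R y) = cl K R y := by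
    ext z
    rw [Finset.mem_filter]
    exact ⟨fun h => h.2 ▸ self_mem_cl K R z, fun h => ⟨h2 y hy h, cl_eq h⟩⟩
  obtain ⟨g, hg, rfl⟩ := mem_orb.1 (h1 hy)
  rw [e, cl_image hg, Finset.card_image_of_injective _ g.injective]

/-- The classes `cl K R y` (`y ∈ orb R x`) partition the orbit into sets of the same size, and
`orb ∩ F` is a union of classes (`Rl y y'` with `g = 1`). (E.g. `Finset.card_eq_sum_card_fiberwise`
for the map `y ↦ cl K R y`, each fibre being a class; or peel off classes by induction.) -/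
theorem cl_dvd (K R : Subgroup (Perm Ω)) (x : Ω) :
    (cl K R x).card ∣ (orb R x).card ∧ (cl K R x).card ∣ (orb R x ∩ fF K).card := by
  refine ⟨cl_dvd_of subset_rfl fun y hy z hz => orb_eq hy ▸ (mem_cl.1 hz).1,
    cl_dvd_of Finset.inter_subset_left fun y hy z hz => ?_⟩
  obtain ⟨h1, h2⟩ := Finset.mem_inter.1 hy
  exact Finset.mem_inter.2 ⟨orb_eq h1 ▸ (mem_cl.1 hz).1, mem_fF.2 ((mem_cl.1 hz).2 1 R.one_mem (mem_fF.1 h2))⟩

/-- Splitting an orbit at a fixed point `x`: `Γ = orb R x \ cl K R x` is `st R x`-invariant, none of its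
`st R x`-orbits is inside `F` (`rl_iff`), and `cl ⊆ F` (`dl_fixed`, `dl_sdiff`). -/
theorem cl_split {K R : Subgroup (Perm Ω)} (hp : Pn K R) (hKR : K ≤ R) {x : Ω} (hx : Fx K x) :
    (∀ g ∈ st R x, ∀ y ∈ orb R x \ cl K R x, g y ∈ orb R x \ cl K R x) ∧
    (∀ y ∈ orb R x \ cl K R x, ∃ g ∈ st R x, ¬ Fx K (g y)) ∧
    dl K (orb R x \ cl K R x) = dl K (orb R x) + (cl K R x).card := by
  refine ⟨fun g hg y hy => ?_, fun y hy => ?_, ?_⟩
  · obtain ⟨h1, h2⟩ := Finset.mem_sdiff.1 hy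
    obtain ⟨g1, g2⟩ := mem_st.1 hg
    refine Finset.mem_sdiff.2 ⟨orb_inv g1 h1, fun h3 => h2 (mem_cl.2 ⟨h1, (rl_smul g1).1 ?_⟩)⟩
    rw [g2]; exact (mem_cl.1 h3).2
  · obtain ⟨h1, h2⟩ := Finset.mem_sdiff.1 hy
    by_contra h3
    push Not at h3
    exact h2 (mem_cl.2 ⟨h1, (rl_iff hp hKR hx).2 h3⟩)
  · have h1 := dl_sdiff K (show cl K R x ⊆ orb R x from fun y hy => (mem_cl.1 hy).1)
    have h2 := dl_fixed (K := K) (A := cl K R x) fun y hy => (mem_cl.1 hy).2 1 R.one_mem hx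
    omega

end Cfsg.Agent.Prae
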