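import Cfsg.Agent.Prae.Api

set_option autoImplicit false

namespace Cfsg.Agent.Prae
open Equiv

variable {Ω : Type} [Fintype Ω] [DecidableEq Ω]

/-- Clique lemma. `O = orb R γ`, `A = orb (st R γ) x`, `a = |A| ≥ 3` odd (`dl_one`, `K ≤ st R γ`). Put `e p q := ∃ g ∈ R, g γ = p ∧ g x = q`.
`e` is symmetric (take `y ≠ z ∈ A`, `g (γ,x) = (y,z)`, `g' (γ,x) = (z,y)`, so `g⁻¹g'` swaps `γ, x`), `{q | e (g γ) q} = A.image g` (`orb_st_image`), and by
`hcl`: `e p q, e p r, q ≠ r → e q r`. So `C p = insert p {q | e p q}` (`p ∈ O`) are the classes of an equivalence relation on `O`, of size `a+1 ≥ 4`.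
For `p ∈ O ∩ F`, `witt` (`s = {γ}`) gives `n ∈ R` preserving `F` with `n γ = p`, so `C p = (insert γ A).image n` has `dl = -1 + 1 = 0` (`dl_image`).
Let `U` = union of the classes meeting `F`: `dl U = 0` (peel classes by induction with `dl_sdiff`), and `O \ U` has no point of `F` and is a union of classes,
so `dl O = |O \ U|` is `0` or `≥ 4`. -/
theorem clq {K R : Subgroup (Perm Ω)} (hp : Pn K R) (hKR : K ≤ R) {γ x : Ω} (hγ : Fx K γ)
    (hx : x ∈ orb R γ) (hxγ : x ≠ γ) (hd1 : 1 ≤ dl K (orb R γ)) (hd3 : dl K (orb R γ) ≤ 3)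
    (hA : dl K (orb (st R γ) x) = 1)
    (hcl : ∀ y ∈ orb (st R γ) x, ∀ z ∈ orb (st R γ) x, y ≠ z → ∃ g ∈ R, g γ = y ∧ g x = z) :
    False := by
  classical
  have ia : ∀ (g : Perm Ω) y, g⁻¹ (g y) = y := fun g y => by simp
  have ai : ∀ (g : Perm Ω) y, g (g⁻¹ y) = y := fun g y => by simp
  obtain ⟨e, he⟩ : ∃ e : Ω → Ω → Prop, ∀ p q, e p q ↔ ∃ g ∈ R, g γ = p ∧ g x = q := ⟨_, fun _ _ => Iff.rfl⟩
  have eA : ∀ q, q ∈ orb (st R γ) x ↔ e γ q := fun q => by
    simp only [he, mem_orb, mem_st, and_assoc]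
  have ei : ∀ g ∈ R, ∀ p q, e p q → e (g p) (g q) := fun g hg p q h => by
    obtain ⟨k, hk, rfl, rfl⟩ := (he _ _).1 h
    exact (he _ _).2 ⟨g * k, R.mul_mem hg hk, rfl, rfl⟩
  have et : ∀ p q r, e p q → e p r → q ≠ r → e q r := fun p q r h1 h2 h3 => by
    obtain ⟨g, hg, rfl, rfl⟩ := (he _ _).1 h1
    have h4 := ei _ (R.inv_mem hg) _ _ h2
    rw [ia] at h4
    have h5 := ei g hg _ _ ((he _ _).2 (hcl x (self_mem_orb _ _) _ ((eA _).2 h4)
      fun c => h3 (by rw [c, ai])))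
    rwa [ai] at h5
  have h3 := (dl_one (fun k hk y hy => orb_inv (le_st hKR hγ hk) hy) hA).1
  have es : ∀ p q, e p q → e q p := fun p q h => by
    obtain ⟨y, hy, z, hz, hyz⟩ := Finset.one_lt_card.1 (by omega : 1 < (orb (st R γ) x).card)
    obtain ⟨g, hg, a1, a2⟩ := hcl y hy z hz hyz
    obtain ⟨g', hg', b1, b2⟩ := hcl z hz y hy hyz.symm
    obtain ⟨k, hk, rfl, rfl⟩ := (he _ _).1 h
    refine ei k hk _ _ ((he _ _).2 ⟨g⁻¹ * g', R.mul_mem (R.inv_mem hg) hg', ?_, ?_⟩)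
    · rw [Perm.mul_apply, b1, ← a2, ia]
    · rw [Perm.mul_apply, b2, ← a1, ia]
  have rs : ∀ p q, (p = q ∨ e p q) → (q = p ∨ e q p) := fun p q h => h.imp Eq.symm (es p q)
  have rt : ∀ p q r, (p = q ∨ e p q) → (q = r ∨ e q r) → (p = r ∨ e p r) := by
    rintro p q r (rfl | h1) h2
    · exact h2
    rcases h2 with rfl | h2
    · exact .inr h1
    exact (em (p = r)).imp_right (et q p r (es _ _ h1) h2)
  have hγA : γ ∉ orb (st R γ) x := fun c => by
    obtain ⟨g, hg, c⟩ := mem_orb.1 c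
    exact hxγ (g.injective (c.trans (mem_st.1 hg).2.symm))
  have d0 : dl K (insert γ (orb (st R γ) x)) = 0 := by
    rw [dl_sdiff K (A := {γ}) (by simp), dl_fixed (by simpa using hγ), Finset.sdiff_singleton_eq_erase,
      Finset.erase_insert hγA, hA]
    simp
  have im : ∀ g ∈ R, ∀ r, r ∈ (insert γ (orb (st R γ) x)).image g ↔ (g γ = r ∨ e (g γ) r) := by
    intro g hg r
    obtain ⟨r, rfl⟩ := g.surjective r
    rw [g.injective.mem_finset_image, Finset.mem_insert, eA, g.injective.eq_iff, eq_comm]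
    refine or_congr_right ⟨ei g hg _ _, fun h => ?_⟩
    simpa using ei _ (R.inv_mem hg) _ _ h
  have cO : ∀ q ∈ orb R γ, ∀ r, (q = r ∨ e q r) → r ∈ orb R γ := by
    rintro q hq r (rfl | h)
    · exact hq
    · obtain ⟨g, hg, -, rfl⟩ := (he _ _).1 h
      exact orb_inv hg hx
  have cls : ∀ q ∈ orb R γ, ∃ C : Finset Ω, (∀ r, r ∈ C ↔ (q = r ∨ e q r)) ∧
      (dl K C = 0 ∨ 4 ≤ dl K C) := fun q hq => by
    by_cases c : ∃ p, (q = p ∨ e q p) ∧ Fx K p
    · obtain ⟨p, h1, h2⟩ := c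
      obtain ⟨g, hg, rfl⟩ := mem_orb.1 (cO q hq p h1)
      obtain ⟨n, hn, n1, n2⟩ := witt hp hKR hg {γ} (by simpa using hγ) (by simpa using h2)
      refine ⟨_, fun r => (im n hn r).trans ?_, .inl ((dl_image n1 _).1.trans d0)⟩
      rw [n2 γ rfl]
      exact ⟨rt _ _ _ h1, rt _ _ _ (rs _ _ h1)⟩
    · obtain ⟨g, hg, rfl⟩ := mem_orb.1 hq
      refine ⟨_, im g hg, .inr ?_⟩
      have h4 := card_eq_dl K ((insert γ (orb (st R γ) x)).image g)
      rw [Finset.card_image_of_injective _ g.injective, Finset.card_insert_of_notMem hγA,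
        Finset.eq_empty_of_forall_notMem (s := _ ∩ fF K) fun p hp => c ⟨p, (im g hg p).1
          (Finset.mem_inter.1 hp).1, mem_fF.1 (Finset.mem_inter.1 hp).2⟩, Finset.card_empty] at h4
      omega
  have key : ∀ V : Finset Ω, V ⊆ orb R γ → (∀ q ∈ V, ∀ r, (q = r ∨ e q r) → r ∈ V) →
      (dl K V = 0 ∨ 4 ≤ dl K V) := fun V => by
    induction V using Finset.strongInduction with
    | H V ih =>
      intro h1 h2
      rcases V.eq_empty_or_nonempty with rfl | ⟨q, hq⟩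
      · exact .inl (dl_empty K)
      obtain ⟨C, c1, c2⟩ := cls q (h1 hq)
      have hC : C ⊆ V := fun r hr => h2 q hq r ((c1 r).1 hr)
      have := ih (V \ C) (Finset.sdiff_ssubset hC ⟨q, (c1 q).2 (.inl rfl)⟩)
        (Finset.sdiff_subset.trans h1) fun p hp r hr => Finset.mem_sdiff.2
          ⟨h2 p (Finset.mem_sdiff.1 hp).1 r hr, fun k => (Finset.mem_sdiff.1 hp).2
            ((c1 p).2 (rt _ _ _ ((c1 r).1 k) (rs _ _ hr)))⟩
      rw [dl_sdiff K hC]
      omega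
  have := key _ subset_rfl cO
  omega

end Cfsg.Agent.Prae
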