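import Cfsg.Agent.Prae.Defs

set_option autoImplicit false

namespace Cfsg.Agent.Prae
open Equiv

variable {Ω : Type} [Fintype Ω] [DecidableEq Ω]

/-- injective `k`-tuples with values in `A` -/
theorem card_injT (A : Finset Ω) (k : ℕ) :
    (Finset.univ.filter fun y : Fin k → Ω => Function.Injective y ∧ ∀ i, y i ∈ A).card =
      A.card.descFactorial k := by
  have : Fintype.card (Fin k ↪ A) = A.card.descFactorial k := by simp [Fintype.card_embedding_eq]
  rw [← this, ← Finset.card_univ]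
  symm
  refine Finset.card_bij (fun f _ => fun i => (f i : Ω)) (fun f _ => ?_) (fun f _ g _ e => ?_) fun y hy => ?_
  · exact Finset.mem_filter.2 ⟨Finset.mem_univ _, Subtype.val_injective.comp f.injective, fun i => (f i).2⟩
  · ext i; exact congrFun e i
  · obtain ⟨-, h1, h2⟩ := Finset.mem_filter.1 hy
    exact ⟨⟨fun i => ⟨y i, h2 i⟩, fun i j e => h1 (congrArg Subtype.val e)⟩, Finset.mem_univ _, rfl⟩

/-- Basic count. For one `y`: the set `{g ∈ G | g ∘ x = y}` is a coset of the stabiliser of `x`, so its size `c` does not depend on the injective `y`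
(`Tr G k` by `Tr.down`); summing over all injective `y : Fin k → Ω` (there are `n.descFactorial k`, `Fintype.card_embedding_eq`) gives `|G|`. -/
theorem cnt {G : Subgroup (Perm Ω)} {k : ℕ} (ht : Tr G k) {x y : Fin k → Ω}
    (hx : Function.Injective x) (hy : Function.Injective y) :
    ((GF G).filter fun g => ∀ i, g (x i) = y i).card * (Fintype.card Ω).descFactorial k =
      (GF G).card := by
  have e1 : ∀ y' ∈ (Finset.univ.filter fun y : Fin k → Ω => Function.Injective y ∧ ∀ i, y i ∈ Finset.univ),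
      ((GF G).filter fun g => (fun i => g (x i)) = y').card =
        ((GF G).filter fun g => ∀ i, g (x i) = y i).card := fun y' hy' => by
    obtain ⟨h, hh, e⟩ := ht y' y (Finset.mem_filter.1 hy').2.1 hy
    refine Finset.card_bij (fun g _ => h * g) (fun g hg => ?_) (fun g _ g' _ e => mul_left_cancel e)
      fun g hg => ?_
    · obtain ⟨a, b⟩ := Finset.mem_filter.1 hg
      exact Finset.mem_filter.2 ⟨mem_GF.2 (G.mul_mem hh (mem_GF.1 a)), fun i => by
        rw [Perm.mul_apply, congrFun b i, e]⟩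
    · obtain ⟨a, b⟩ := Finset.mem_filter.1 hg
      refine ⟨h⁻¹ * g, Finset.mem_filter.2 ⟨mem_GF.2 (G.mul_mem (G.inv_mem hh) (mem_GF.1 a)), funext fun i => ?_⟩,
        mul_inv_cancel_left _ _⟩
      rw [Perm.mul_apply, b, ← e, Perm.inv_def, Equiv.symm_apply_apply]
  rw [Finset.card_eq_sum_card_fiberwise (s := GF G) (f := fun g i => g (x i))
    (t := Finset.univ.filter fun y : Fin k → Ω => Function.Injective y ∧ ∀ i, y i ∈ Finset.univ)
    (fun g _ => Finset.mem_coe.2 (Finset.mem_filter.2 ⟨Finset.mem_univ _, g.injective.comp hx,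
      fun _ => Finset.mem_univ _⟩)),
    Finset.sum_congr rfl e1, Finset.sum_const, card_injT, Finset.card_univ, smul_eq_mul, mul_comm]

/-- targets in a finset `Y` of injective tuples (fibrewise sum of `cnt`) -/
theorem cntY {G : Subgroup (Perm Ω)} {k : ℕ} (ht : Tr G k) {x : Fin k → Ω}
    (hx : Function.Injective x) (Y : Finset (Fin k → Ω)) (hY : ∀ y ∈ Y, Function.Injective y) :
    ((GF G).filter fun g => (fun i => g (x i)) ∈ Y).card * (Fintype.card Ω).descFactorial k =
      (GF G).card * Y.card := by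
  rw [Finset.card_eq_sum_card_fiberwise (f := fun (g : Perm Ω) i => g (x i)) (t := Y)
    (fun g hg => Finset.mem_coe.2 (Finset.mem_filter.1 hg).2), Finset.sum_mul, mul_comm, ← smul_eq_mul,
    ← Finset.sum_const]
  refine Finset.sum_congr rfl fun y hy => ?_
  rw [← cnt ht hx (hY y hy), Finset.filter_filter]
  congr 2
  refine Finset.filter_congr fun g _ => ⟨fun h i => congrFun h.2 i, fun h => ?_⟩
  have : (fun i => g (x i)) = y := funext h
  exact ⟨by rw [← this] at hy; exact hy, this⟩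

/-- `j` distinct points into `A`, one further point into `B`, `A`, `B` disjoint
(`cntY` with `Fin.cons`/`Fin.snoc`; `Y ≃ B × injective j-tuples in A`). -/
theorem cntAB {G : Subgroup (Perm Ω)} {j : ℕ} (ht : Tr G (j + 1)) {x : Fin j → Ω} {z : Ω}
    (hx : Function.Injective x) (hz : ∀ i, x i ≠ z) {A B : Finset Ω} (hAB : Disjoint A B) :
    ((GF G).filter fun g => (∀ i, g (x i) ∈ A) ∧ g z ∈ B).card * (Fintype.card Ω).descFactorial (j + 1) =
      (GF G).card * (A.card.descFactorial j * B.card) := by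
  have inj : Function.Injective fun p : Ω × (Fin j → Ω) => (Fin.cons p.1 p.2 : Fin (j + 1) → Ω) :=
    fun p q e => Prod.ext (congrFun e 0) (funext fun i => congrFun e i.succ)
  have k := cntY ht (x := Fin.cons z x) (Fin.cons_injective_iff.2 ⟨fun ⟨i, e⟩ => hz i e, hx⟩)
    ((B ×ˢ (Finset.univ.filter fun y : Fin j → Ω => Function.Injective y ∧ ∀ i, y i ∈ A)).image
      fun p => Fin.cons p.1 p.2) fun y hy => by
        obtain ⟨p, hp, rfl⟩ := Finset.mem_image.1 hy
        obtain ⟨a, b⟩ := Finset.mem_product.1 hp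
        obtain ⟨-, b, c⟩ := Finset.mem_filter.1 b
        exact Fin.cons_injective_iff.2 ⟨fun ⟨i, e⟩ => Finset.disjoint_left.1 hAB (e ▸ c i) a, b⟩
  rw [Finset.card_image_of_injective _ inj, Finset.card_product, card_injT, mul_comm B.card] at k
  rw [← k]
  congr 2
  refine Finset.filter_congr fun g _ => ⟨fun h => Finset.mem_image.2 ⟨(g z, fun i => g (x i)),
    Finset.mem_product.2 ⟨h.2, Finset.mem_filter.2 ⟨Finset.mem_univ _, g.injective.comp hx, h.1⟩⟩,
    funext fun i => Fin.cases rfl (fun _ => rfl) i⟩, fun h => ?_⟩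
  obtain ⟨p, hp, e⟩ := Finset.mem_image.1 h
  obtain ⟨a, b⟩ := Finset.mem_product.1 hp
  obtain ⟨-, -, c⟩ := Finset.mem_filter.1 b
  exact ⟨fun i => (show p.2 i = g (x i) from congrFun e i.succ) ▸ c i, (show p.1 = g z from congrFun e 0) ▸ a⟩

/-- two points into `A`, two points into `B` -/
theorem cnt22 {G : Subgroup (Perm Ω)} (ht : Tr G 4) {p q r s : Ω} (h1 : p ≠ q) (h2 : p ≠ r) (h3 : p ≠ s)
    (h4 : q ≠ r) (h5 : q ≠ s) (h6 : r ≠ s) {A B : Finset Ω} (hAB : Disjoint A B) :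
    ((GF G).filter fun g => g p ∈ A ∧ g q ∈ A ∧ g r ∈ B ∧ g s ∈ B).card * (Fintype.card Ω).descFactorial 4 =
      (GF G).card * (A.card * (A.card - 1) * (B.card * (B.card - 1))) := by
  have inj : Function.Injective fun p : (Ω × Ω) × Ω × Ω => (![p.1.1, p.1.2, p.2.1, p.2.2] : Fin 4 → Ω) :=
    fun p q e => Prod.ext (Prod.ext (congrFun e 0) (congrFun e 1)) (Prod.ext (congrFun e 2) (congrFun e 3))
  have d : ∀ {a b}, a ∈ A → b ∈ B → a ≠ b := fun ha hb e => Finset.disjoint_left.1 hAB (e ▸ ha) hb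
  have k := cntY ht (inj4 h1 h2 h3 h4 h5 h6) ((A.offDiag ×ˢ B.offDiag).image
      fun p => ![p.1.1, p.1.2, p.2.1, p.2.2]) fun y hy => by
        obtain ⟨p, hp, rfl⟩ := Finset.mem_image.1 hy
        obtain ⟨a, b⟩ := Finset.mem_product.1 hp
        obtain ⟨a1, a2, a3⟩ := Finset.mem_offDiag.1 a
        obtain ⟨b1, b2, b3⟩ := Finset.mem_offDiag.1 b
        exact inj4 a3 (d a1 b1) (d a1 b2) (d a2 b1) (d a2 b2) b3
  rw [Finset.card_image_of_injective _ inj, Finset.card_product, Finset.offDiag_card, Finset.offDiag_card,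
    ← Nat.mul_sub_one, ← Nat.mul_sub_one] at k
  rw [← k]
  congr 2
  refine Finset.filter_congr fun g _ => ⟨fun h => Finset.mem_image.2 ⟨((g p, g q), g r, g s),
    Finset.mem_product.2 ⟨Finset.mem_offDiag.2 ⟨h.1, h.2.1, g.injective.ne h1⟩,
      Finset.mem_offDiag.2 ⟨h.2.2.1, h.2.2.2, g.injective.ne h6⟩⟩,
    funext fun i => by fin_cases i <;> rfl⟩, fun h => ?_⟩
  obtain ⟨t, hp, e⟩ := Finset.mem_image.1 h
  obtain ⟨a, b⟩ := Finset.mem_product.1 hp
  obtain ⟨a1, a2, -⟩ := Finset.mem_offDiag.1 a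
  obtain ⟨b1, b2, -⟩ := Finset.mem_offDiag.1 b
  exact ⟨(show t.1.1 = g p from congrFun e 0) ▸ a1, (show t.1.2 = g q from congrFun e 1) ▸ a2,
    (show t.2.1 = g r from congrFun e 2) ▸ b1, (show t.2.2 = g s from congrFun e 3) ▸ b2⟩

theorem cnt3 {G : Subgroup (Perm Ω)} (ht : Tr G 3) {p q r p' q' r' : Ω} (h1 : p ≠ q) (h2 : p ≠ r)
    (h3 : q ≠ r) (h1' : p' ≠ q') (h2' : p' ≠ r') (h3' : q' ≠ r') :
    ((GF G).filter fun g => g p = p' ∧ g q = q' ∧ g r = r').card * (Fintype.card Ω).descFactorial 3 =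
      (GF G).card := by
  rw [← cnt ht (inj3 h1 h2 h3) (inj3 h1' h2' h3')]
  congr 2
  exact Finset.filter_congr fun g _ => ⟨fun h i => by fin_cases i; exacts [h.1, h.2.1, h.2.2],
    fun h => ⟨h 0, h 1, h 2⟩⟩

theorem cnt4 {G : Subgroup (Perm Ω)} (ht : Tr G 4) {p q r s p' q' r' s' : Ω} (h1 : p ≠ q) (h2 : p ≠ r)
    (h3 : p ≠ s) (h4 : q ≠ r) (h5 : q ≠ s) (h6 : r ≠ s) (h1' : p' ≠ q') (h2' : p' ≠ r')
    (h3' : p' ≠ s') (h4' : q' ≠ r') (h5' : q' ≠ s') (h6' : r' ≠ s') :
    ((GF G).filter fun g => g p = p' ∧ g q = q' ∧ g r = r' ∧ g s = s').card *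
      (Fintype.card Ω).descFactorial 4 = (GF G).card := by
  rw [← cnt ht (inj4 h1 h2 h3 h4 h5 h6) (inj4 h1' h2' h3' h4' h5' h6')]
  congr 2
  exact Finset.filter_congr fun g _ => ⟨fun h i => by fin_cases i; exacts [h.1, h.2.1, h.2.2.1, h.2.2.2],
    fun h => ⟨h 0, h 1, h 2, h 3⟩⟩

end Cfsg.Agent.Prae
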