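import Cfsg.Agent.Prae.Cnt

set_option autoImplicit false

namespace Cfsg.Agent.Prae
open Equiv

variable {Ω : Type} [Fintype Ω] [DecidableEq Ω]

theorem bc_le {ι α : Type*} [DecidableEq α] {T : Finset α} (I : Finset ι) (f : ι → Finset α) {D c : ℕ}
    (h1 : ∀ g ∈ T, ∃ i ∈ I, g ∈ f i) (h2 : ∀ i ∈ I, (f i).card * D ≤ c) : T.card * D ≤ I.card * c :=
  calc T.card * D ≤ (∑ i ∈ I, (f i).card) * D := Nat.mul_le_mul_right _
        ((Finset.card_le_card fun g hg => Finset.mem_biUnion.2 (h1 g hg)).trans Finset.card_biUnion_le)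
    _ ≤ _ := by rw [Finset.sum_mul]; exact Finset.sum_le_card_nsmul _ _ _ h2

theorem bc_pair {G : Subgroup (Perm Ω)} (ht : Tr G 4) (h4 : 4 ≤ Fintype.card Ω) {u : Perm Ω} {x y : Ω}
    (hx : x ∈ u.support) (hy : y ∈ u.support) :
    ((GF G).filter fun g => (u (g x) = g x ∧ u (g (u x)) ≠ g (u x)) ∧
      (u (g⁻¹ y) = g⁻¹ y ∧ u (g⁻¹ (u y)) ≠ g⁻¹ (u y))).card * (Fintype.card Ω).descFactorial 4 ≤
      (GF G).card * (u.supportᶜ.card ^ 2 * ((Fintype.card Ω - 3) + (u.support.card - 2) ^ 2)) := by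
  have hx' := Perm.apply_mem_support.2 hx
  have hy' := Perm.apply_mem_support.2 hy
  have x1 := Perm.mem_support.1 hx
  have y1 := Perm.mem_support.1 hy
  have ne : ∀ {a b}, a ∈ u.support → b ∈ u.supportᶜ → a ≠ b := fun ha hb e =>
    Finset.mem_compl.1 hb (e ▸ ha)
  have mF : ∀ {a}, u a = a → a ∈ u.supportᶜ := fun h => Finset.mem_compl.2 (Perm.notMem_support.2 h)
  have ce : ∀ {z}, z ∈ u.support → ((u.support.erase z).erase (u z)).card = u.support.card - 2 :=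
    fun hz => by
      rw [Finset.card_erase_of_mem (Finset.mem_erase.2 ⟨Perm.mem_support.1 hz,
        Perm.apply_mem_support.2 hz⟩), Finset.card_erase_of_mem hz, Nat.sub_sub]
  rw [← Finset.card_filter_add_card_filter_not (fun g : Perm Ω => g (u x) = u y), add_mul]
  refine (add_le_add (bc_le (u.supportᶜ ×ˢ u.supportᶜ)
    (fun i => (GF G).filter fun g => g x = i.2 ∧ g (u x) = u y ∧ g i.1 = y)
    (c := (Fintype.card Ω - 3) * (GF G).card) ?_ ?_)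
    (bc_le ((u.supportᶜ ×ˢ u.supportᶜ) ×ˢ
      ((u.support.erase x).erase (u x) ×ˢ (u.support.erase y).erase (u y)))
    (fun i => (GF G).filter fun g => g x = i.1.2 ∧ g (u x) = i.2.2 ∧ g i.1.1 = y ∧ g i.2.1 = u y)
    (c := (GF G).card) ?_ ?_)).trans (le_of_eq ?_)
  · intro g hg
    simp only [Finset.mem_filter] at hg
    obtain ⟨⟨hg, ⟨a1, -⟩, a3, -⟩, a5⟩ := hg
    exact ⟨(g⁻¹ y, g x), Finset.mem_product.2 ⟨mF a3, mF a1⟩,
      Finset.mem_filter.2 ⟨hg, rfl, a5, by simp⟩⟩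
  · rintro ⟨p, r⟩ hi
    obtain ⟨hp, hr⟩ := Finset.mem_product.1 hi
    rw [Nat.descFactorial_succ, mul_left_comm, cnt3 (ht.down (by norm_num) h4) x1.symm (ne hx hp)
      (ne hx' hp) (ne hy' hr).symm (ne hy hr).symm y1]
  · intro g hg
    simp only [Finset.mem_filter] at hg
    obtain ⟨⟨hg, ⟨a1, a2⟩, a3, a4⟩, a5⟩ := hg
    refine ⟨((g⁻¹ y, g x), (g⁻¹ (u y), g (u x))), Finset.mem_product.2 ⟨Finset.mem_product.2
      ⟨mF a3, mF a1⟩, Finset.mem_product.2 ⟨Finset.mem_erase.2 ⟨fun e => a5 ?_, Finset.mem_erase.2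
        ⟨fun e => ne hy' (mF a1) ?_, Perm.mem_support.2 a4⟩⟩, Finset.mem_erase.2 ⟨a5,
          Finset.mem_erase.2 ⟨fun e => ne hx' (mF a3) ?_, Perm.mem_support.2 a2⟩⟩⟩⟩,
      Finset.mem_filter.2 ⟨hg, rfl, rfl, by simp, by simp⟩⟩
    · exact (Perm.inv_eq_iff_eq.1 e).symm
    · exact Perm.inv_eq_iff_eq.1 e
    · exact Perm.eq_inv_iff_eq.2 e
  · rintro ⟨⟨p, r⟩, q, s⟩ hi
    simp only [Finset.mem_product, Finset.mem_erase] at hi
    obtain ⟨⟨hp, hr⟩, ⟨q1, q2, hq⟩, s1, s2, hs⟩ := hi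
    exact (cnt4 ht x1.symm (ne hx hp) q2.symm (ne hx' hp) q1.symm (ne hq hp).symm (ne hs hr).symm
      (ne hy hr).symm (ne hy' hr).symm s2 s1 y1.symm).le
  · simp only [Finset.card_product, ce hx, ce hy]
    ring

/-- `c(g)·c(g⁻¹)` counts pairs `(x,y) ∈ S × S` (`S = supp u`, `F = Sᶜ`) with `g x ∈ F`, `g (u x) ∈ S`, `p := g⁻¹ y ∈ F`, `q := g⁻¹ (u y) ∈ S`.
Fix `x, y ∈ S` (`m²` choices) and bound the number of such `g ∈ G` by splitting on `q = u x`: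
* `q = u x`: `g` maps `(x, u x, p) ↦ (r, u y, y)` for some `p, r ∈ F` (`a²` choices), each `cnt3`: `N / n.descFactorial 3`, and
  `n.descFactorial 4 = (n-3) * n.descFactorial 3` (`Tr G 3` by `Tr.down`).
* `q ≠ u x`: also `q ≠ x` (`g x ∈ F`, `u y ∈ S`); `s := g (u x) ∈ S \ {y, u y}`; `g` maps `(x, u x, p, q) ↦ (r, s, y, u y)`, four distinct points each side,
  `p, r ∈ F`, `q ∈ S \ {x, u x}`, `s ∈ S \ {y, u y}`: `a² (m-2)²` choices, each `cnt4`.
Use `Finset.card_le_card` into a `biUnion` and `Finset.card_biUnion_le`. -/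
theorem momBC {G : Subgroup (Perm Ω)} (ht : Tr G 4) (h4 : 4 ≤ Fintype.card Ω) (u : Perm Ω) :
    (∑ g ∈ GF G, cc u g * cc u g⁻¹) * (Fintype.card Ω).descFactorial 4 ≤
      (GF G).card * (u.supportᶜ.card ^ 2 * u.support.card ^ 2 *
        ((Fintype.card Ω - 3) + (u.support.card - 2) ^ 2)) := by
  have e : ∑ g ∈ GF G, cc u g * cc u g⁻¹ = ∑ x ∈ u.support, ∑ y ∈ u.support,
      ((GF G).filter fun g => (u (g x) = g x ∧ u (g (u x)) ≠ g (u x)) ∧
        (u (g⁻¹ y) = g⁻¹ y ∧ u (g⁻¹ (u y)) ≠ g⁻¹ (u y))).card := by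
    simp only [cc, Finset.card_filter, Finset.sum_mul_sum, ite_zero_mul_ite_zero, mul_one]
    rw [Finset.sum_comm]
    exact Finset.sum_congr rfl fun x _ => Finset.sum_comm
  rw [e, Finset.sum_mul]
  refine (Finset.sum_le_card_nsmul _ _ _ fun x hx => (Finset.sum_mul _ _ _).trans_le
    (Finset.sum_le_card_nsmul _ _ _ fun y hy => bc_pair ht h4 hx hy)).trans (le_of_eq ?_)
  simp only [smul_eq_mul]
  ring

end Cfsg.Agent.Prae
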