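import Cfsg.Agent.Prae.Cnt

set_option autoImplicit false

namespace Cfsg.Agent.Prae
open Equiv

variable {Ω : Type} [Fintype Ω] [DecidableEq Ω]

/-- `c(c-1)` counts ordered pairs `x ≠ x'` in `supp u` with `g x, g x'` fixed and `g (u x), g (u x')` moved by `u`; then `x' ≠ u x`, `x ≠ u x'`, so
`x' ∉ {x, u x, u⁻¹ x}`: at most `m - 2` choices, at most `m - 3` when `u (u x) ≠ x`. The four points `x, x', u x, u x'` are distinct: `cnt22`
with `A = u.supportᶜ`, `B = u.support`. -/
theorem momCC {G : Subgroup (Perm Ω)} (ht : Tr G 4) (u : Perm Ω) {t : ℕ}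
    (htt : t = 2 ∨ (t = 3 ∧ ∀ x, u (u x) = x → u x = x)) :
    (∑ g ∈ GF G, cc u g * (cc u g - 1)) * (Fintype.card Ω).descFactorial 4 ≤
      (GF G).card * (u.support.card * (u.support.card - t) *
        (u.supportᶜ.card * (u.supportᶜ.card - 1) * (u.support.card * (u.support.card - 1)))) := by
  let T (x : Ω) : Finset Ω := u.support \ {x, u x, u⁻¹ x}
  let Q (g : Perm Ω) (x y : Ω) : Prop :=
    g x ∈ u.supportᶜ ∧ g y ∈ u.supportᶜ ∧ g (u x) ∈ u.support ∧ g (u y) ∈ u.support
  have hT (x) (hx : x ∈ u.support) : (T x).card ≤ u.support.card - t := by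
    have a := Perm.mem_support.1 hx
    have b : u⁻¹ x ≠ x := fun e => a (Perm.inv_eq_iff_eq.1 e).symm
    rw [Finset.card_sdiff_of_subset (by
      simp only [Finset.insert_subset_iff, Finset.singleton_subset_iff, Perm.apply_mem_support, hx, true_and]
      exact Perm.apply_mem_support.1 (by simpa using a))]
    refine Nat.sub_le_sub_left ?_ _
    obtain rfl | ⟨rfl, h⟩ := htt
    · exact (Finset.card_pair a.symm).ge.trans (Finset.card_le_card (by simp [Finset.insert_subset_iff]))
    · exact (Finset.card_eq_three.2 ⟨_, _, _, a.symm, b.symm,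
        fun e => a (h x (Perm.eq_inv_iff_eq.1 e)), rfl⟩).ge
  have h1 (g : Perm Ω) : cc u g * (cc u g - 1) ≤ ∑ x ∈ u.support, ∑ y ∈ T x, if Q g x y then 1 else 0 := by
    rw [cc, ← smul_eq_mul, ← Finset.sum_const, ← Finset.sum_congr rfl fun x hx => Finset.card_erase_of_mem hx]
    refine (Finset.sum_le_sum fun x hx => ?_).trans (Finset.sum_le_sum_of_subset (Finset.filter_subset _ _))
    rw [← Finset.card_filter]
    refine Finset.card_le_card fun y hy => ?_
    simp only [Finset.mem_erase, Finset.mem_filter, Perm.mem_support, T, Q, Finset.mem_sdiff, Finset.mem_compl,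
      Finset.mem_insert, Finset.mem_singleton, not_or, not_not] at hx hy ⊢
    refine ⟨⟨hy.2.1, hy.1, fun e => hx.2.2 (e ▸ hy.2.2.1), fun e => hy.2.2.2 ?_⟩, hx.2.1, hy.2.2.1, hx.2.2, hy.2.2.2⟩
    rw [Perm.eq_inv_iff_eq.1 e, hx.2.1]
  refine (Nat.mul_le_mul_right _ (Finset.sum_le_sum fun g _ => h1 g)).trans ?_
  rw [Finset.sum_comm, Finset.sum_mul, mul_left_comm, mul_assoc, ← smul_eq_mul u.support.card]
  refine Finset.sum_le_card_nsmul _ _ _ fun x hx => ?_
  rw [Finset.sum_comm, Finset.sum_mul]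
  refine (Finset.sum_le_card_nsmul _ _ _ fun y hy => ?_).trans (Nat.mul_le_mul_right _ (hT x hx))
  simp only [T, Finset.mem_sdiff, Finset.mem_insert, Finset.mem_singleton, not_or, Perm.mem_support] at hx hy
  rw [← Finset.card_filter]
  exact (cnt22 ht (Ne.symm hy.2.1) hx.symm (fun e => hy.2.2.2 (Perm.eq_inv_iff_eq.2 e.symm)) hy.2.2.1 hy.1.symm
    (u.injective.ne (Ne.symm hy.2.1)) disjoint_compl_left).le

end Cfsg.Agent.Prae
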