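import Cfsg.Agent.Prae.MomC
import Cfsg.Agent.Prae.MomCC
import Cfsg.Agent.Prae.MomBC

set_option autoImplicit false

namespace Cfsg.Agent.Prae
open Equiv

variable {Ω : Type} [Fintype Ω] [DecidableEq Ω]

theorem comb_df (b k : ℕ) :
    ((b.descFactorial (k + 1) : ℕ) : ℤ) = ((b : ℤ) - k) * (b.descFactorial k : ℕ) := by
  rw [Nat.descFactorial_succ]
  rcases le_or_gt k b with h | h
  · rw [Nat.cast_mul, Nat.cast_sub h]
  · rw [Nat.descFactorial_of_lt h]; simp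

theorem comb_d1 (b : ℕ) : ((b.descFactorial 1 : ℕ) : ℤ) = b := by simp

theorem comb_d2 (b : ℕ) : ((b.descFactorial 2 : ℕ) : ℤ) = b * (b - 1) := by
  rw [comb_df, comb_d1]; push_cast; ring

theorem comb_d3 (b : ℕ) : ((b.descFactorial 3 : ℕ) : ℤ) = b * (b - 1) * (b - 2) := by
  rw [comb_df, comb_d2]; push_cast; ring

theorem comb_d4 (b : ℕ) : ((b.descFactorial 4 : ℕ) : ℤ) = b * (b - 1) * (b - 2) * (b - 3) := by
  rw [comb_df, comb_d3]; push_cast; ring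

theorem comb_s0 (u g : Perm Ω) (h : be u g = 0) : sg u g = 0 := by
  have e : ∀ g, cc u g ≤ be u g := fun g =>
    Finset.card_le_card fun x hx => Finset.mem_filter.2
      ⟨(Finset.mem_filter.1 hx).1, (Finset.mem_filter.1 hx).2.1⟩
  have h1 := e g
  have h2 := e g⁻¹
  rw [be_inv] at h2
  unfold sg
  omega

theorem comb_s1 (u g : Perm Ω) :
    ((sg u g * (be u g - 1).descFactorial 1 : ℕ) : ℤ) = sg u g * ((be u g : ℤ) - 1) := by
  rcases Nat.eq_zero_or_pos (be u g) with h | h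
  · rw [comb_s0 u g h]; simp
  · rw [Nat.cast_mul, comb_d1, Nat.cast_sub h, Nat.cast_one]

theorem comb_s2 (u g : Perm Ω) :
    ((sg u g * (be u g - 1).descFactorial 2 : ℕ) : ℤ) =
      sg u g * ((be u g : ℤ) - 1) * ((be u g : ℤ) - 2) := by
  rcases Nat.eq_zero_or_pos (be u g) with h | h
  · rw [comb_s0 u g h]; simp
  · rw [Nat.cast_mul, comb_d2, Nat.cast_sub h, Nat.cast_one]; ring

theorem comb_sq (G : Subgroup (Perm Ω)) (u : Perm Ω) :
    ∑ g ∈ GF G, sg u g ^ 2 = 2 * ∑ g ∈ GF G, cc u g * (cc u g - 1) + 2 * ∑ g ∈ GF G, cc u g +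
      2 * ∑ g ∈ GF G, cc u g * cc u g⁻¹ := by
  have e : ∀ c : ℕ, c ^ 2 = c * (c - 1) + c := fun c => by cases c <;> simp; ring
  have h1 : ∑ g ∈ GF G, sg u g ^ 2 = ∑ g ∈ GF G, cc u g ^ 2 + ∑ g ∈ GF G, cc u g⁻¹ ^ 2 +
      2 * ∑ g ∈ GF G, cc u g * cc u g⁻¹ := by
    rw [Finset.mul_sum, ← Finset.sum_add_distrib, ← Finset.sum_add_distrib]
    exact Finset.sum_congr rfl fun g _ => by unfold sg; ring
  rw [h1, sum_inv G fun g => cc u g ^ 2, Finset.sum_congr rfl fun g _ => e (cc u g), Finset.sum_add_distrib]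
  ring

theorem comb_num {k : Fin 9 → ℤ} {m a t N B1 B2 B3 B4 S0 S1 S2 C0 C1 C2 : ℤ} (hm : 3 ≤ m) (ha : 3 ≤ a)
    (hN : 0 < N) (k8 : 0 ≤ k 8)
    (h0 : 0 ≤ N * k 0 + k 1 * B1 + k 2 * B2 + k 3 * B3 + k 4 * B4 + k 5 * S0 + k 6 * S1 + k 7 * S2 +
      k 8 * (2 * C1 + 2 * C0 + 2 * C2))
    (b1 : B1 * (a + m) = N * (m * a))
    (b2 : B2 * ((a + m) * (a + m - 1)) = N * (m * (m - 1) * (a * (a - 1))))
    (b3 : B3 * ((a + m) * (a + m - 1) * (a + m - 2)) = N * (m * (m - 1) * (m - 2) * (a * (a - 1) * (a - 2))))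
    (b4 : B4 * ((a + m) * (a + m - 1) * (a + m - 2) * (a + m - 3)) =
      N * (m * (m - 1) * (m - 2) * (m - 3) * (a * (a - 1) * (a - 2) * (a - 3))))
    (s0 : S0 * ((a + m) * (a + m - 1)) = 2 * (N * (m * (a * m))))
    (s1 : S1 * ((a + m) * (a + m - 1) * (a + m - 2)) = 2 * (N * (m * (m - 2) * (a * (a - 1) * m))))
    (s2 : S2 * ((a + m) * (a + m - 1) * (a + m - 2) * (a + m - 3)) =
      2 * (N * (m * ((m - 2) * (m - 2 - 1)) * (a * (a - 1) * (a - 2) * m))))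
    (c0 : C0 * ((a + m) * (a + m - 1)) = N * (m * (a * m)))
    (c1 : C1 * ((a + m) * (a + m - 1) * (a + m - 2) * (a + m - 3)) ≤
      N * (m * (m - t) * (a * (a - 1) * (m * (m - 1)))))
    (c2 : C2 * ((a + m) * (a + m - 1) * (a + m - 2) * (a + m - 3)) ≤
      N * (a ^ 2 * m ^ 2 * (a + m - 3 + (m - 2) ^ 2))) : 0 ≤ val k m a t := by
  have hD : 0 ≤ (a + m) * (a + m - 1) * (a + m - 2) * (a + m - 3) :=
    mul_nonneg (mul_nonneg (mul_nonneg (by omega) (by omega)) (by omega)) (by omega)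
  have h1 := mul_nonneg h0 hD
  have h2 := mul_le_mul_of_nonneg_left (add_le_add c1 c2) k8
  refine nonneg_of_mul_nonneg_right (a := N) ?_ hN
  unfold val
  linear_combination h1 + 2 * h2 + k 1 * (a + m - 1) * (a + m - 2) * (a + m - 3) * b1 +
    k 2 * (a + m - 2) * (a + m - 3) * b2 + k 3 * (a + m - 3) * b3 + k 4 * b4 +
    k 5 * (a + m - 2) * (a + m - 3) * s0 + k 6 * (a + m - 3) * s1 + k 7 * s2 +
    2 * k 8 * (a + m - 2) * (a + m - 3) * c0

/-- Combination of the moments. Sum `psi k (β g) (σ g) ≥ 0` over `g ∈ GF G`, multiply by `n(n-1)(n-2)(n-3)`, and evaluate each of the nine sums in `ℤ`: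
`momB` (`k = 1..4`, `Nat.cast_descFactorial`-style: `(b.descFactorial 2 : ℤ) = b(b-1)` etc., true for all `b : ℕ`),
`momS` (`j = 0,1,2`; `σ·(β-1).descFactorial j` casts to `σ(β-1)`, `σ(β-1)(β-2)` because `β = 0 → σ = 0`: `cc u g ≤ be u g` and `be_inv`),
`σ² = c² + c'² + 2cc'`, `Σ c'² = Σ c²` (`sum_inv`), `c² = c(c-1) + c`, `momCC`, `momC` (`j = 0`), `momBC`. All `Tr G j`, `j ≤ 4`, by `Tr.down`.
This gives `0 ≤ N · val k m a t` with `N = |GF G| > 0`, `n = a + m` (`Finset.card_add_card_compl`). -/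
theorem comb {G : Subgroup (Perm Ω)} (ht : Tr G 4) (u : Perm Ω) (hm : 3 ≤ u.support.card)
    (ha : 3 ≤ u.supportᶜ.card) {t : ℕ} (htt : t = 2 ∨ (t = 3 ∧ ∀ x, u (u x) = x → u x = x))
    {P : ℤ → ℤ → Prop} (hP : ∀ g ∈ G, P (be u g) (sg u g)) :
    ¬ Cert u.support.card u.supportᶜ.card t P := by
  rintro ⟨k, k8, hk, hv⟩
  have hn : Fintype.card Ω = u.supportᶜ.card + u.support.card := by
    rw [add_comm, Finset.card_add_card_compl]
  have h4 : 4 ≤ Fintype.card Ω := by omega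
  have t1 := ht.down (j := 1) (by norm_num) h4
  have t2 := ht.down (j := 2) (by norm_num) h4
  have t3 := ht.down (j := 3) (by norm_num) h4
  have hN : 0 < (GF G).card := Finset.card_pos.2 ⟨1, mem_GF.2 G.one_mem⟩
  have h2 : 2 ≤ u.support.card := by omega
  have h1 : 1 ≤ u.support.card := by omega
  have h1' : 1 ≤ u.supportᶜ.card := by omega
  have h3 : 3 ≤ u.supportᶜ.card + u.support.card := by omega
  have ht' : t ≤ u.support.card := by omega
  have b1 := congrArg (Nat.cast : ℕ → ℤ) (momB t1 u)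
  have b2 := congrArg (Nat.cast : ℕ → ℤ) (momB t2 u)
  have b3 := congrArg (Nat.cast : ℕ → ℤ) (momB t3 u)
  have b4 := congrArg (Nat.cast : ℕ → ℤ) (momB ht u)
  have s0 := congrArg (Nat.cast : ℕ → ℤ) (momS (j := 0) t2 u)
  have s1 := congrArg (Nat.cast : ℕ → ℤ) (momS (j := 1) t3 u)
  have s2 := congrArg (Nat.cast : ℕ → ℤ) (momS (j := 2) ht u)
  have c0 := congrArg (Nat.cast : ℕ → ℤ) (momC (j := 0) t2 u)
  have c1 := (Nat.cast_le (α := ℤ)).2 (momCC ht u htt)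
  have c2 := (Nat.cast_le (α := ℤ)).2 (momBC ht h4 u)
  have sq := congrArg (Nat.cast : ℕ → ℤ) (comb_sq G u)
  rw [Nat.cast_mul, Nat.cast_sum] at s1 s2
  simp only [comb_s1, comb_s2] at s1 s2
  rw [hn] at b1 b2 b3 b4 s0 s1 s2 c0 c1 c2
  simp only [Nat.descFactorial_zero, mul_one, Nat.reduceAdd] at s0 c0 s1 s2
  generalize ∑ g ∈ GF G, cc u g * (cc u g - 1) = C1 at c1 sq
  generalize ∑ g ∈ GF G, cc u g * cc u g⁻¹ = C2 at c2 sq
  simp only [Nat.cast_mul, Nat.cast_sum, comb_d1, comb_d2, comb_d3, comb_d4, Nat.cast_add, Nat.cast_pow,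
    Nat.cast_ofNat, Nat.cast_one, Nat.cast_sub h2, Nat.cast_sub h1, Nat.cast_sub h1', Nat.cast_sub h3,
    Nat.cast_sub ht'] at b1 b2 b3 b4 s0 s1 s2 c0 c1 c2 sq
  have h0 := Finset.sum_nonneg fun g (hg : g ∈ GF G) => hk _ _ (hP g (mem_GF.1 hg))
  simp only [psi, Finset.sum_add_distrib, ← Finset.mul_sum, Finset.sum_const, nsmul_eq_mul, sq] at h0
  exact (comb_num (by exact_mod_cast hm) (by exact_mod_cast ha) (by exact_mod_cast hN) k8 h0
    b1 b2 b3 b4 s0 s1 s2 c0 c1 c2).not_gt hv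

end Cfsg.Agent.Prae
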