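import Cfsg.Agent.Prae.Cnt

set_option autoImplicit false

namespace Cfsg.Agent.Prae
open Equiv

variable {Ω : Type} [Fintype Ω] [DecidableEq Ω]

/-! `m = u.support.card`, `a = u.supportᶜ.card` (fixed points of `u`), `n = a + m`, `N = (GF G).card`. -/

/-- `(β g).descFactorial k` = number of injective `k`-tuples `x` in `supp u` with all `g (x i)` fixed by `u` (`card_injT`);
swap the sums (`Finset.sum_comm`/`Finset.card_filter`) and use `cntY` with `Y` = injective tuples in `u.supportᶜ`. -/
theorem momB {G : Subgroup (Perm Ω)} {k : ℕ} (ht : Tr G k) (u : Perm Ω) :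
    (∑ g ∈ GF G, (be u g).descFactorial k) * (Fintype.card Ω).descFactorial k =
      (GF G).card * (u.support.card.descFactorial k * u.supportᶜ.card.descFactorial k) := by
  let T : Finset Ω → Finset (Fin k → Ω) := fun A =>
    Finset.univ.filter fun y => Function.Injective y ∧ ∀ i, y i ∈ A
  have e : ∀ g : Perm Ω, (be u g).descFactorial k =
      ∑ x ∈ T u.support, if (fun i => g (x i)) ∈ T u.supportᶜ then 1 else 0 := fun g => by
    rw [be, ← card_injT, ← Finset.card_filter]
    congr 1
    ext x
    simp only [T, Finset.mem_filter, Finset.mem_univ, true_and, Finset.mem_compl, Perm.mem_support, not_not]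
    exact ⟨fun h => ⟨⟨h.1, fun i => (h.2 i).1⟩, g.injective.comp h.1, fun i => (h.2 i).2⟩,
      fun h => ⟨h.1.1, fun i => ⟨h.1.2 i, h.2.2 i⟩⟩⟩
  rw [Finset.sum_congr rfl fun g _ => e g, Finset.sum_comm, Finset.sum_mul,
    Finset.sum_congr rfl fun x hx => (congrArg (· * _) (Finset.card_filter _ _).symm).trans
      (cntY ht (Finset.mem_filter.1 hx).2.1 (T u.supportᶜ) fun y hy => (Finset.mem_filter.1 hy).2.1),
    Finset.sum_const, smul_eq_mul, card_injT, card_injT]
  ring

/-- `β(g⁻¹) = β(g)`: both equal `a - |fix u ∩ g (fix u)|`. -/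
theorem be_inv (u g : Perm Ω) : be u g⁻¹ = be u g := by
  have e1 : be u g⁻¹ = ((Finset.univ.filter fun x => u x = x).filter fun x => ¬ u (g x) = g x).card :=
    Finset.card_equiv g⁻¹ fun x => by simp [and_comm]
  have e2 : be u g = ((Finset.univ.filter fun x => u (g x) = g x).filter fun x => ¬ u x = x).card := by
    rw [be]
    congr 1
    ext x
    simp [and_comm]
  have e3 : (Finset.univ.filter fun x => u (g x) = g x).card = (Finset.univ.filter fun x => u x = x).card :=
    Finset.card_equiv g fun x => by simp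
  have e4 := Finset.card_filter_add_card_filter_not (s := Finset.univ.filter fun x => u x = x)
    fun x => u (g x) = g x
  have e5 := Finset.card_filter_add_card_filter_not (s := Finset.univ.filter fun x => u (g x) = g x)
    fun x => u x = x
  rw [Finset.filter_comm] at e5
  omega

/-- reindexing `g ↦ g⁻¹` -/
theorem sum_inv (G : Subgroup (Perm Ω)) (f : Perm Ω → ℕ) :
    ∑ g ∈ GF G, f g⁻¹ = ∑ g ∈ GF G, f g := by
  exact Finset.sum_equiv (Equiv.inv _) (fun g => by simp) fun g _ => rfl

end Cfsg.Agent.Prae
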