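import Cfsg.Agent.Prae.Api
import Cfsg.Agent.Prae.MomB

set_option autoImplicit false

namespace Cfsg.Agent.Prae
open Equiv

variable {Ω : Type} [Fintype Ω] [DecidableEq Ω]

/-! `v = g⁻¹ * u * g`; `v x = x ↔ u (g x) = g x`; `cc u g⁻¹ = #{y | u y = y, v y ≠ y, u (v y) ≠ v y}` (substitute `x = g y`). -/

omit [Fintype Ω] [DecidableEq Ω] in
theorem fix_v (u g : Perm Ω) (x y : Ω) : (g⁻¹ * u * g) x = y ↔ u (g x) = g y := by
  rw [Perm.mul_apply, Perm.mul_apply, Perm.inv_eq_iff_eq]

theorem fix_be' (u g : Perm Ω) :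
    be u g = ((g⁻¹ * u * g).support.filter fun x => u x = x).card := by
  rw [← be_inv]
  refine (Finset.card_equiv g fun x => ?_).symm
  simp only [Finset.mem_filter, Perm.mem_support, Ne, fix_v, Perm.coe_inv, Equiv.symm_apply_apply]

theorem fix_cc' (u g : Perm Ω) : cc u g⁻¹ = ((g⁻¹ * u * g).support.filter fun x =>
    u x = x ∧ u ((g⁻¹ * u * g) x) ≠ (g⁻¹ * u * g) x).card := by
  refine (Finset.card_equiv g fun x => ?_).symm
  simp only [Finset.mem_filter, Perm.mem_support, Ne, Perm.coe_inv, Equiv.symm_apply_apply]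
  rw [fix_v]
  rfl

theorem fix_cc_le (u g : Perm Ω) : cc u g ≤ be u g :=
  Finset.card_le_card fun x => by simp only [Finset.mem_filter]; tauto

theorem fix_cc_add (u g : Perm Ω) : cc u g + be u g ≤ u.support.card := by
  rw [cc, be, ← Finset.card_map u.toEmbedding, ← Finset.card_union_of_disjoint]
  · refine Finset.card_le_card (Finset.union_subset (fun y hy => ?_) (Finset.filter_subset _ _))
    obtain ⟨x, hx, rfl⟩ := Finset.mem_map.1 hy
    exact Perm.apply_mem_support.2 (Finset.mem_filter.1 hx).1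
  · refine Finset.disjoint_left.2 fun y hy hy' => ?_
    obtain ⟨x, hx, rfl⟩ := Finset.mem_map.1 hy
    exact (Finset.mem_filter.1 hx).2.2 (Finset.mem_filter.1 hy').2

omit [Fintype Ω] [DecidableEq Ω] in
theorem fix_w (u v : Perm Ω) (x : Ω) : (u⁻¹ * v⁻¹ * u * v) x = x ↔ u (v x) = v (u x) := by
  rw [Perm.mul_apply, Perm.mul_apply, Perm.mul_apply, Perm.inv_eq_iff_eq, Perm.inv_eq_iff_eq]

omit [Fintype Ω] [DecidableEq Ω] in
theorem fix_one {u v : Perm Ω} (h : u⁻¹ * v⁻¹ * u * v = 1) : u * v = v * u :=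
  Equiv.ext fun x => (fix_w u v x).1 (by rw [h]; rfl)

theorem be_le (u g : Perm Ω) : be u g ≤ u.support.card := by
  exact Finset.card_filter_le _ _

/-- `cc u g ≤ be u g` and `be_inv` -/
theorem sg_le (u g : Perm Ω) : sg u g ≤ 2 * be u g := by
  have h1 := fix_cc_le u g
  have h2 := fix_cc_le u g⁻¹
  rw [be_inv] at h2
  rw [sg]; omega

/-- `x ↦ u x` injects the set counted by `cc u g` into `supp u \ (set counted by be u g)`; `be_inv` -/
theorem sg_le' (u g : Perm Ω) : sg u g + 2 * be u g ≤ 2 * u.support.card := by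
  have h1 := fix_cc_add u g
  have h2 := fix_cc_add u g⁻¹
  rw [be_inv] at h2
  rw [sg]; omega

/-- The commutator `w = u⁻¹ v⁻¹ u v` fixes `x` iff `u (v x) = v (u x)`: it fixes `fix u ∩ fix v`, the `x ∈ fix u ∩ supp v` with `v x ∈ fix u`
(all but `cc u g⁻¹` of them) and the `x ∈ supp u ∩ fix v` with `u x ∈ fix v` (`be u g - cc u g` of them). -/
theorem comm_fix (u g : Perm Ω) :
    (u⁻¹ * (g⁻¹ * u * g)⁻¹ * u * (g⁻¹ * u * g)).support.card + be u g ≤ u.support.card + sg u g := by
  have h1 := Finset.card_filter_add_card_filter_not (s := u.support) fun x => u (g x) = g x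
  have h2 : (u⁻¹ * (g⁻¹ * u * g)⁻¹ * u * (g⁻¹ * u * g)).support ⊆
      (u.support.filter fun x => ¬ u (g x) = g x) ∪
        (u.support.filter fun x => u (g x) = g x ∧ u (g (u x)) ≠ g (u x)) ∪
        (g⁻¹ * u * g).support.filter fun x => u x = x ∧ u ((g⁻¹ * u * g) x) ≠ (g⁻¹ * u * g) x := fun x hx => by
    rw [Perm.mem_support, Ne, fix_w] at hx
    simp only [Finset.mem_union, Finset.mem_filter, Perm.mem_support, Ne, ← fix_v u g]
    generalize g⁻¹ * u * g = v at hx ⊢
    by_cases a : u x = x <;> by_cases b : v x = x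
    · exact absurd (by rw [a, b, a]) hx
    · exact .inr ⟨b, a, by rwa [a] at hx⟩
    · exact .inl (.inr ⟨a, b, fun e => hx (by rw [b, e])⟩)
    · exact .inl (.inl ⟨a, b⟩)
  have h3 := (Finset.card_le_card h2).trans ((Finset.card_union_le _ _).trans
    (Nat.add_le_add_right (Finset.card_union_le _ _) _))
  rw [sg, fix_cc', cc, be]
  omega

/-- if `u` and `v` commute, `σ = 0` -/
theorem sg_comm {u g : Perm Ω} (h : u * (g⁻¹ * u * g) = (g⁻¹ * u * g) * u) : sg u g = 0 := by
  have k : ∀ x, u ((g⁻¹ * u * g) x) = (g⁻¹ * u * g) (u x) := fun x => congrArg (· x) h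
  rw [sg, fix_cc', cc, Nat.add_eq_zero_iff, Finset.card_eq_zero, Finset.card_eq_zero, Finset.filter_eq_empty_iff,
    Finset.filter_eq_empty_iff]
  refine ⟨fun x _ e => e.2 ?_, fun x _ e => e.2 (by rw [k, e.1])⟩
  rw [← fix_v, ← k, (fix_v _ _ _ _).2 e.1]

/-- `u` of minimal support in `G` -/
theorem pa_of {G : Subgroup (Perm Ω)} {u : Perm Ω} (hu : u ∈ G)
    (hmin : ∀ w ∈ G, w ≠ 1 → u.support.card ≤ w.support.card) {g : Perm Ω} (hg : g ∈ G) :
    PA u.support.card (be u g) (sg u g) := by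
  have h1 := be_le u g
  have h2 := sg_le u g
  have h3 := sg_le' u g
  refine ⟨by omega, by omega, by omega, by omega, by omega, ?_⟩
  by_cases h : u⁻¹ * (g⁻¹ * u * g)⁻¹ * u * (g⁻¹ * u * g) = 1
  · exact .inr (by rw [sg_comm (fix_one h)]; rfl)
  · have hv := mul_mem (mul_mem (inv_mem hg) hu) hg
    have h4 := hmin _ (mul_mem (mul_mem (mul_mem (inv_mem hu) (inv_mem hv)) hu) hv) h
    have h5 := comm_fix u g
    exact .inl (by omega)

/-- Step B: every `w ≠ 1` of `G` moves at least `h = |F|` points, `n = 2h`, `1 ≠ u ∈ K`, so `fix u = F`, `m = h`. If `w = [u,v] ≠ 1`: `comm_fix`. Else `u v = v u`, `σ = 0`;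
suppose `2β > h`. `fix v = g⁻¹ F` (`h` points) is preserved by `u`. Let `k ∈ K`, `k' = g⁻¹ k g`; it fixes `fix v` pointwise and permutes `supp v` (`h` points).
`T = supp v ∩ F` has `be u g⁻¹ = β > h/2` points (up to `g`), so some `y ∈ T` has `k' y ∈ T`. Then `k'⁻¹ u⁻¹ k' u ∈ G` fixes `fix v` pointwise and `y`: it moves `< h` points, so is `1`.
Hence `k'` commutes with `u` and preserves `F = fix u`. `H` = setwise stabiliser of `F` contains `K` and `g⁻¹ K g`; `pn_stab` (for `g⁻¹`) gives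
`Fx x ↔ Fx (g x)`, so `β = 0`, contradiction. -/
theorem pb_of {G K : Subgroup (Perm Ω)} (hKG : K ≤ G) (hp : Pn K G)
    (hn : 2 * (fF K).card = Fintype.card Ω)
    (hmin : ∀ w ∈ G, w ≠ 1 → (fF K).card ≤ w.support.card) {u : Perm Ω} (hu : u ∈ K) (hu1 : u ≠ 1)
    {g : Perm Ω} (hg : g ∈ G) :
    u.support.card = (fF K).card ∧ PB u.support.card (be u g) (sg u g) := by
  have hs : u.support = (fF K)ᶜ := Finset.eq_of_subset_of_card_le (fun x hx => Finset.mem_compl.2 fun h =>
    Perm.mem_support.1 hx (mem_fF.1 h u hu)) (by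
      have := hmin u (hKG hu) hu1
      rw [Finset.card_compl]; omega)
  have hF : ∀ x, u x = x ↔ Fx K x := fun x => by
    rw [← Perm.notMem_support, hs, Finset.mem_compl, not_not, mem_fF]
  have hm : u.support.card = (fF K).card := by rw [hs, Finset.card_compl]; omega
  refine ⟨hm, by omega, by omega, ?_⟩
  have hv := mul_mem (mul_mem (inv_mem hg) (hKG hu)) hg
  by_cases h : u⁻¹ * (g⁻¹ * u * g)⁻¹ * u * (g⁻¹ * u * g) = 1
  swap
  · have h4 := hmin _ (mul_mem (mul_mem (mul_mem (inv_mem (hKG hu)) (inv_mem hv)) (hKG hu)) hv) h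
    have h5 := comm_fix u g
    exact .inl (by omega)
  have hc := fix_one h
  refine .inr ⟨by rw [sg_comm hc]; rfl, ?_⟩
  by_contra hb
  have hb' := fix_be' u g
  have hvs : (g⁻¹ * u * g).support.card = u.support.card := by
    simpa using Perm.card_support_conj (σ := g⁻¹) (τ := u)
  have hfv : ∀ x, (g⁻¹ * u * g) x = x ↔ Fx K (g x) := fun x => by rw [fix_v, hF]
  set v := g⁻¹ * u * g
  have key : ∀ k ∈ K, (g⁻¹ * k * g) * u = u * (g⁻¹ * k * g) := fun k hk => by
    have f1 : ∀ x, v x = x → (g⁻¹ * k * g) x = x := fun x hx => (fix_v _ _ _ _).2 ((hfv x).1 hx k hk)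
    have hk' := mul_mem (mul_mem (inv_mem hg) (hKG hk)) hg
    set k' := g⁻¹ * k * g
    obtain ⟨y, hy1, hy2⟩ : ∃ y ∈ v.support.filter fun x => u x = x, u (k' y) = k' y := by
      by_contra! e
      have h1 : (v.support.filter fun x => u x = x).map k'.toEmbedding ⊆ v.support.filter fun x => ¬ u x = x :=
        fun z hz => by
          obtain ⟨y, hy, rfl⟩ := Finset.mem_map.1 hz
          refine Finset.mem_filter.2 ⟨Perm.mem_support.2 fun e' => ?_, e y hy⟩
          have e2 : k' y = y := k'.injective (f1 _ e')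
          exact e y hy (by rw [e2]; exact (Finset.mem_filter.1 hy).2)
      have h2 := Finset.card_le_card h1
      have h3 := Finset.card_filter_add_card_filter_not (s := v.support) fun x => u x = x
      rw [Finset.card_map] at h2
      omega
    refine fix_one (by_contra fun e => ?_)
    have h1 := hmin _ (mul_mem (mul_mem (mul_mem (inv_mem hk') (inv_mem (hKG hu))) hk') (hKG hu)) e
    have h2 : (k'⁻¹ * u⁻¹ * k' * u).support ⊆ v.support.erase y := fun x hx => by
      rw [Perm.mem_support, Ne, fix_w] at hx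
      refine Finset.mem_erase.2 ⟨?_, Perm.mem_support.2 fun e => hx ?_⟩
      · rintro rfl
        exact hx (by rw [(Finset.mem_filter.1 hy1).2, hy2])
      · rw [f1 x e, f1 _ (by rw [← Perm.mul_apply, ← hc, Perm.mul_apply, e])]
    have h3 := Finset.card_le_card h2
    have h4 := Finset.card_erase_add_one (Finset.mem_filter.1 hy1).1
    omega
  let H : Subgroup (Perm Ω) :=
    { carrier := {w | ∀ x, Fx K (w x) ↔ Fx K x}
      one_mem' := fun _ => Iff.rfl
      mul_mem' := fun ha hb x => (ha _).trans (hb x)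
      inv_mem' := fun {a} ha x => by simpa using (ha (a⁻¹ x)).symm }
  obtain ⟨w, hw, e⟩ := pn_stab (H := H) hp (inv_mem hg) (fun k hk x => ⟨fun h => by
      have : k x = x := k.injective (h k hk)
      rwa [this] at h, fun h => by rwa [h k hk]⟩) fun k hk x => by
    rw [inv_inv, ← hF, ← hF, ← Perm.mul_apply, ← key k hk, Perm.mul_apply, EmbeddingLike.apply_eq_iff_eq]
  have h0 : be u g = 0 := Finset.card_eq_zero.2 (Finset.filter_eq_empty_iff.2 fun x hx e' =>
    Perm.mem_support.1 hx ((hF x).2 ((H.inv_mem hw x).1 ((e x).2 ((hF _).1 e')))))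
  omega

end Cfsg.Agent.Prae
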