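import Cfsg.Agent.Prae.P1
import Cfsg.Agent.Prae.Clq

set_option autoImplicit false

namespace Cfsg.Agent.Prae
open Equiv

variable {Ω : Type} [Fintype Ω] [DecidableEq Ω]

/-! `R = st (st G α) β`, `L = st R γ`, `O = orb R γ = univ \ {α, β}`. -/

theorem H3.mem_O {G K : Subgroup (Perm Ω)} {α β γ : Ω} (h : H3 G K α β γ) (z : Ω) :
    z ∈ orb (st (st G α) β) γ ↔ z ≠ α ∧ z ≠ β := by
  constructor
  · intro hz
    obtain ⟨g, hg, rfl⟩ := mem_orb.1 hz
    simp only [mem_st] at hg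
    refine ⟨fun e => h.ac (g.injective (hg.1.2.trans e.symm)), fun e => h.bc (g.injective (hg.2.trans e.symm))⟩
  · rintro ⟨h1, h2⟩
    obtain ⟨g, hg, e1, e2, e3⟩ := h.t3.three h.ab h.ac h.bc h.ab (Ne.symm h1) (Ne.symm h2)
    exact mem_orb.2 ⟨g, by simp [hg, e1, e2], e3⟩

theorem H3.le2 {G K : Subgroup (Perm Ω)} {α β γ : Ω} (h : H3 G K α β γ) : K ≤ st (st G α) β :=
  le_st (le_st h.ce.le h.fa) h.fb

theorem H3.le3 {G K : Subgroup (Perm Ω)} {α β γ : Ω} (h : H3 G K α β γ) : K ≤ st (st (st G α) β) γ :=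
  le_st h.le2 h.fc

theorem H3.dl_O {G K : Subgroup (Perm Ω)} {α β γ : Ω} (h : H3 G K α β γ) :
    dl K (orb (st (st G α) β) γ) = 2 := by
  have h0 : dl K (Finset.univ : Finset Ω) = 0 := by
    have := card_eq_dl K (Finset.univ : Finset Ω)
    rw [Finset.univ_inter, Finset.card_univ, ← h.hn] at this
    push_cast at this
    omega
  have h1 : orb (st (st G α) β) γ = Finset.univ \ {α, β} := by
    ext z; rw [h.mem_O]; simp
  have h2 := dl_sdiff K (Finset.subset_univ ({α, β} : Finset Ω))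
  have h3 : dl K ({α, β} : Finset Ω) = -(({α, β} : Finset Ω).card : ℤ) := dl_fixed (by
    intro x hx
    rcases Finset.mem_insert.1 hx with rfl | hx
    · exact h.fa
    · rw [Finset.mem_singleton.1 hx]; exact h.fb)
  rw [Finset.card_pair h.ab] at h3
  rw [h1]
  push_cast at h3
  omega

/-- an `L`-orbit `A` with `dl = 1` is 2-transitive, and no pair of `A` lies in the `R`-orbital of `A` -/
theorem H3.nopair {G K : Subgroup (Perm Ω)} {α β γ x : Ω} (h : H3 G K α β γ) (xa : x ≠ α) (xb : x ≠ β)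
    (xc : x ≠ γ) (hd : dl K (orb (st (st (st G α) β) γ) x) = 1) {p q : Ω}
    (hp : p ∈ orb (st (st (st G α) β) γ) x) (hq : q ∈ orb (st (st (st G α) β) γ) x) :
    ¬ ∃ g ∈ st (st G α) β, g γ = p ∧ g x = q := by
  rintro ⟨g, hg, e1, e2⟩
  have hγ : γ ∉ orb (st (st (st G α) β) γ) x := by
    intro hh
    obtain ⟨t, ht, e⟩ := mem_orb.1 hh
    exact xc (t.injective (e.trans (mem_st.1 ht).2.symm))
  have hpq : p ≠ q := by
    rw [← e1, ← e2]; exact fun e => xc (g.injective e).symm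
  have hle : st (st (st G α) β) γ ≤ G := (st_le _ _).trans ((st_le _ _).trans (st_le _ _))
  refine clq (h.ce.pn.mono ((st_le _ _).trans (st_le _ _))) h.le2 h.fc ((h.mem_O x).2 ⟨xa, xb⟩) xc
    (by rw [h.dl_O]; norm_num) (by rw [h.dl_O]; norm_num) hd ?_
  intro y hy z hz hyz
  obtain ⟨t, ht, f1, f2⟩ := h.ce.p1 h.le3 hle hγ hd p hp q hq y hy z hz hpq hyz
  exact ⟨t * g, (st (st G α) β).mul_mem (st_le _ _ ht) hg, by simp [e1, f1], by simp [e2, f2]⟩

end Cfsg.Agent.Prae
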