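import Cfsg.Agent.Prae.Cl

set_option autoImplicit false

namespace Cfsg.Agent.Prae
open Equiv

variable {Ω : Type} [Fintype Ω] [DecidableEq Ω]

theorem Ce.mem_orb {G K : Subgroup (Perm Ω)} (h : Ce G K) (x y : Ω) : y ∈ orb G x := Prae.mem_orb.2 (h.tr x y)

theorem Ce.ex_fix {G K : Subgroup (Perm Ω)} (h : Ce G K) : (∃ s, ¬ Fx K s) ∧ ∃ f, Fx K f := by
  have h1 : ∃ s, ¬ Fx K s := by
    by_contra c
    push Not at c
    exact h.nt (eq_bot_iff.2 fun k hk => Equiv.ext fun s => c s k hk)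
  obtain ⟨s, hs⟩ := h1
  have := h.bad
  have h2 : 0 < Fintype.card Ω := Fintype.card_pos_iff.2 ⟨s⟩
  obtain ⟨f, hf⟩ := Finset.card_pos.1 (show 0 < (fF K).card by omega)
  exact ⟨⟨s, hs⟩, f, mem_fF.1 hf⟩

/-- The closure relation of `G` is trivial. -/
theorem Ce.rl_eq {G K : Subgroup (Perm Ω)} (h : Ce G K) {x y : Ω} (hxy : Rl K G x y) : x = y := by
  classical
  by_contra n
  let S : Setoid Ω := ⟨Rl K G, fun _ _ _ a => a, fun a => rl_symm (h.mem_orb _ _) a,
    fun a b g hg c => b g hg (a g hg c)⟩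
  let f0 : G → Quotient S → Quotient S := fun g =>
    Quotient.map (sa := S) (sb := S) (g.1 ·) fun a b c => (rl_smul g.2).2 c
  let f : G →* Function.End (Quotient S) :=
    { toFun := f0
      map_one' := funext fun q => Quotient.inductionOn q fun _ => rfl
      map_mul' := fun a b => funext fun q => Quotient.inductionOn q fun _ => rfl }
  let φ := f.toHomPerm
  have e : ∀ (g : G) (a : Ω), φ g ⟦a⟧ = ⟦g.1 a⟧ := fun _ _ => rfl
  by_cases c : ∃ k : G, k.1 ∈ K ∧ φ k ≠ 1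
  · have fb : ∀ q : Quotient S, (Finset.univ.filter fun a : Ω => (⟦a⟧ : Quotient S) = q).card =
        (cl K G x).card := fun q => Quotient.inductionOn q fun z => by
      obtain ⟨g, hg, rfl⟩ := h.tr x z
      rw [← Finset.card_image_of_injective (cl K G x) g.injective, ← cl_image hg]
      refine congrArg _ (Finset.ext fun a => ?_)
      rw [mem_cl, Finset.mem_filter, eq_comm, Quotient.eq]
      exact ⟨fun k => ⟨h.mem_orb _ _, k.2⟩, fun k => ⟨Finset.mem_univ _, k.2⟩⟩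
    have h1 := (h.ih _ (Fintype.card_lt_of_surjective_not_injective (Quotient.mk S) Quotient.mk_surjective
      fun k => n (k (Quotient.sound hxy)))).act h.pn h.le φ
      (fun a b => Quotient.inductionOn₂ a b fun a b => by
        obtain ⟨g, hg, rfl⟩ := h.tr a b
        exact ⟨⟨g, hg⟩, rfl⟩) c ((fF K).image fun a => ⟦a⟧) fun q hq k hk => by
        obtain ⟨a, ha, rfl⟩ := Finset.mem_image.1 hq
        rw [e, mem_fF.1 ha k hk]
    have h2 := Finset.card_le_mul_card_image (f := fun a : Ω => (⟦a⟧ : Quotient S)) (fF K) _ fun q _ =>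
      (Finset.card_le_card (Finset.filter_subset_filter _ (Finset.subset_univ _))).trans (fb q).le
    have h3 := Finset.mul_card_image_le_card (f := fun a : Ω => (⟦a⟧ : Quotient S)) Finset.univ _
      fun q _ => (fb q).ge
    rw [Finset.image_univ_of_surjective Quotient.mk_surjective, Finset.card_univ, Finset.card_univ] at h3
    have h4 := Finset.card_pos.2 ⟨x, self_mem_cl K G x⟩
    have h5 := h.bad
    nlinarith [Nat.mul_le_mul_left (cl K G x).card h1]
  · push Not at c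
    obtain ⟨⟨s, hs⟩, a, ha⟩ := h.ex_fix
    obtain ⟨g, hg, rfl⟩ := h.tr a s
    have k0 : ∀ k ∈ K, ∀ g : G, g.1 * k * g.1⁻¹ ∈ φ.ker.map G.subtype := fun k hk g =>
      Subgroup.mem_map_of_mem G.subtype (x := g * ⟨k, h.le hk⟩ * g⁻¹) (by
        rw [MonoidHom.mem_ker, map_mul, map_mul, c ⟨k, h.le hk⟩ hk, mul_one, ← map_mul, mul_inv_cancel, map_one])
    obtain ⟨_, ⟨w, hw, rfl⟩, e1⟩ := pn_stab (H := φ.ker.map G.subtype) h.pn hg
      (fun k hk => by simpa using k0 k hk 1) fun k hk => k0 k hk ⟨g, hg⟩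
    have h1 := e w⁻¹ (g a)
    rw [show φ w⁻¹ = 1 from inv_mem hw] at h1
    have h2 : Rl K G (w.1⁻¹ (g a)) (g a) := Quotient.exact h1.symm
    exact hs (h2 1 G.one_mem ((e1 _).2 (by simpa using ha)))

/-- Level 1. -/
theorem Ce.lev1 {G K : Subgroup (Perm Ω)} (h : Ce G K) :
    2 * (fF K).card = Fintype.card Ω ∧ Tr G 2 := by
  obtain ⟨⟨s, hs⟩, β, hβ⟩ := h.ex_fix
  have e1 : orb G β = Finset.univ := Finset.eq_univ_of_forall (h.mem_orb β)
  have e2 : cl K G β = {β} := Finset.eq_singleton_iff_unique_mem.2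
    ⟨self_mem_cl K G β, fun y hy => (h.rl_eq (mem_cl.1 hy).2).symm⟩
  obtain ⟨h1, h2, h3⟩ := cl_split h.pn h.le hβ
  rw [e1, e2] at h1 h2 h3
  have m : ∀ {y}, y ∈ Finset.univ \ {β} ↔ y ≠ β := by simp
  have h4 := (h.inv_dl (le_st h.le hβ) (st_le G β) (z := β) _ (by simp) h1 h2).2
    ⟨s, m.2 fun e => hs (e ▸ hβ)⟩
  have h5 := card_eq_dl K Finset.univ
  have h6 := h.bad
  rw [Finset.univ_inter, Finset.card_univ] at h5
  rw [Finset.card_singleton] at h3
  refine ⟨by omega, fun x y hx hy => ?_⟩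
  have key : ∀ a ≠ β, ∀ b ≠ β, b ∈ orb (st G β) a := fun a ha b hb => by
    by_contra n
    have sub : orb (st G β) a ⊆ Finset.univ \ {β} := fun z hz => by
      obtain ⟨g, hg, rfl⟩ := Prae.mem_orb.1 hz
      exact h1 g hg a (m.2 ha)
    have k1 := dl_sdiff K sub
    have k2 := h.orb_dl (le_st h.le hβ) (st_le G β) (z := β) (fun c => m.1 (sub c) rfl) (h2 a (m.2 ha))
    have k3 := (h.inv_dl (le_st h.le hβ) (st_le G β) (z := β) ((Finset.univ \ {β}) \ orb (st G β) a)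
      (by simp) (fun g hg z hz => by
        rw [Finset.mem_sdiff] at hz ⊢
        exact ⟨h1 g hg z hz.1, fun c => hz.2 (by simpa using orb_inv (inv_mem hg) c)⟩)
      fun z hz => h2 z (Finset.mem_sdiff.1 hz).1).2 ⟨b, Finset.mem_sdiff.2 ⟨m.2 hb, n⟩⟩
    omega
  obtain ⟨g, hg, a⟩ := h.tr (x 0) β
  obtain ⟨g', hg', a'⟩ := h.tr (y 0) β
  obtain ⟨w, hw, b⟩ := Prae.mem_orb.1 (key (g (x 1)) (fun c => absurd (hx (g.injective (c.trans a.symm))) (by decide))
    (g' (y 1)) fun c => absurd (hy (g'.injective (c.trans a'.symm))) (by decide))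
  rw [mem_st] at hw
  refine ⟨g'⁻¹ * w * g, mul_mem (mul_mem (inv_mem hg') hw.1) hg, Fin.forall_fin_two.2 ⟨?_, ?_⟩⟩
  · rw [Perm.mul_apply, Perm.mul_apply, a, hw.2, ← a']; simp
  · rw [Perm.mul_apply, Perm.mul_apply, b]; simp

end Cfsg.Agent.Prae
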