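import Cfsg.Agent.Prae.MomB

set_option autoImplicit false

namespace Cfsg.Agent.Prae
open Equiv

variable {Ω : Type} [Fintype Ω] [DecidableEq Ω]

/-- injective tuples in `supp u \ {x, u x}` -/
def mcT (u : Perm Ω) (j : ℕ) (x : Ω) : Finset (Fin j → Ω) :=
  Finset.univ.filter fun y : Fin j → Ω =>
    Function.Injective y ∧ ∀ i, y i ∈ (u.support.erase x).erase (u x)

theorem mc_cardT {u : Perm Ω} (j : ℕ) {x : Ω} (hx : x ∈ u.support) :
    (mcT u j x).card = (u.support.card - 2).descFactorial j := by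
  rw [mcT, card_injT, Finset.card_erase_of_mem, Finset.card_erase_of_mem hx]
  · rfl
  · exact Finset.mem_erase.2 ⟨Perm.mem_support.1 hx, Perm.apply_mem_support.2 hx⟩

theorem mc_pt (u g : Perm Ω) (j : ℕ) :
    cc u g * (be u g - 1).descFactorial j = ∑ x ∈ u.support, ∑ y ∈ mcT u j x,
      if (∀ i, g ((Fin.cons x y : Fin (j + 1) → Ω) i) ∈ u.supportᶜ) ∧ g (u x) ∈ u.support
      then 1 else 0 := by
  rw [cc, Finset.card_filter, Finset.sum_mul]
  refine Finset.sum_congr rfl fun x hx => ?_
  rw [← Finset.card_filter]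
  by_cases hC : u (g x) = g x ∧ u (g (u x)) ≠ g (u x)
  · rw [if_pos hC, one_mul]
    have hm : x ∈ u.support.filter fun x => u (g x) = g x := Finset.mem_filter.2 ⟨hx, hC.1⟩
    rw [be, ← Finset.card_erase_of_mem hm, ← card_injT]
    congr 1
    ext y
    simp only [mcT, Finset.mem_filter, Finset.mem_univ, true_and, Finset.mem_erase,
      Finset.mem_compl, Perm.mem_support, Fin.forall_fin_succ, Fin.cons_zero, Fin.cons_succ,
      not_not]
    constructor
    · rintro ⟨h1, h2⟩
      refine ⟨⟨h1, fun i => ⟨?_, (h2 i).1, (h2 i).2.1⟩⟩, ⟨hC.1, fun i => (h2 i).2.2⟩, hC.2⟩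
      intro e
      exact hC.2 (e ▸ (h2 i).2.2)
    · rintro ⟨⟨h1, h2⟩, ⟨-, h3⟩, -⟩
      exact ⟨h1, fun i => ⟨(h2 i).2.1, (h2 i).2.2, h3 i⟩⟩
  · rw [if_neg hC, zero_mul, eq_comm, Finset.card_eq_zero, Finset.filter_eq_empty_iff]
    rintro y - ⟨h1, h2⟩
    apply hC
    have := h1 0
    simp only [Fin.cons_zero, Finset.mem_compl, Perm.mem_support, not_not] at this
    exact ⟨this, Perm.mem_support.1 h2⟩

/-- `c(g)·(β(g)-1).descFactorial j` counts pairs `(x, x')`, `x ∈ supp u` with `g x` fixed and `g (u x)` moved by `u`, `x'` an injective `j`-tuple in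
`(supp u ∩ g⁻¹ fix u).erase x` (`card_injT`); such `x'` automatically avoids `u x`. Swap sums: for each `x ∈ supp u` (`m` choices) and injective `j`-tuple
`x'` in `supp u \ {x, u x}` (`(m-2).descFactorial j` choices), `cntAB` (tuple `Fin.cons x x'` into `A = u.supportᶜ`, point `u x` into `B = u.support`). -/
theorem momC {G : Subgroup (Perm Ω)} {j : ℕ} (ht : Tr G (j + 2)) (u : Perm Ω) :
    (∑ g ∈ GF G, cc u g * (be u g - 1).descFactorial j) * (Fintype.card Ω).descFactorial (j + 2) =
      (GF G).card * (u.support.card * (u.support.card - 2).descFactorial j *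
        (u.supportᶜ.card.descFactorial (j + 1) * u.support.card)) := by
  simp only [mc_pt]
  rw [Finset.sum_comm, Finset.sum_mul]
  have key : ∀ x ∈ u.support, (∑ g ∈ GF G, ∑ y ∈ mcT u j x,
      if (∀ i, g ((Fin.cons x y : Fin (j + 1) → Ω) i) ∈ u.supportᶜ) ∧ g (u x) ∈ u.support
      then 1 else 0) * (Fintype.card Ω).descFactorial (j + 2) =
      (u.support.card - 2).descFactorial j * ((GF G).card *
        (u.supportᶜ.card.descFactorial (j + 1) * u.support.card)) := by
    intro x hx
    rw [Finset.sum_comm, Finset.sum_mul, ← mc_cardT j hx, ← smul_eq_mul, ← Finset.sum_const]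
    refine Finset.sum_congr rfl fun y hy => ?_
    rw [← Finset.card_filter]
    simp only [mcT, Finset.mem_filter, Finset.mem_univ, true_and, Finset.mem_erase] at hy
    refine cntAB (j := j + 1) ht ?_ ?_ disjoint_compl_left
    · rw [Fin.cons_injective_iff]
      refine ⟨?_, hy.1⟩
      rintro ⟨i, hi⟩
      exact (hy.2 i).2.1 hi
    · intro i
      refine Fin.cases ?_ (fun i => ?_) i
      · exact (Perm.mem_support.1 hx).symm
      · exact (hy.2 i).1
  rw [Finset.sum_congr rfl key, Finset.sum_const, smul_eq_mul]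
  ring

/-- the same for `σ` (`sum_inv`, `be_inv`) -/
theorem momS {G : Subgroup (Perm Ω)} {j : ℕ} (ht : Tr G (j + 2)) (u : Perm Ω) :
    (∑ g ∈ GF G, sg u g * (be u g - 1).descFactorial j) * (Fintype.card Ω).descFactorial (j + 2) =
      2 * ((GF G).card * (u.support.card * (u.support.card - 2).descFactorial j *
        (u.supportᶜ.card.descFactorial (j + 1) * u.support.card))) := by
  have h1 := momC ht u
  have h2 : ∑ g ∈ GF G, cc u g⁻¹ * (be u g - 1).descFactorial j =
      ∑ g ∈ GF G, cc u g * (be u g - 1).descFactorial j := by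
    rw [← sum_inv G fun g => cc u g * (be u g - 1).descFactorial j]
    simp only [be_inv]
  simp only [sg, add_mul, Finset.sum_add_distrib]
  rw [h2, h1]
  ring

end Cfsg.Agent.Prae
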