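import Cfsg.Agent.Prae.Defs

set_option autoImplicit false

namespace Cfsg.Agent.Prae

theorem certA1 {m a : ℤ} (h : (7 ≤ m ∧ m + 4 ≤ a) ∨ (m = 6 ∧ 12 ≤ a)) : Cert m a 2 (PA m) := by
  refine ⟨![0, 0, 0, 0, 0, -1, -1, 0, 1], by simp, ?_, ?_⟩
  · rintro b s ⟨h0, h1, h2, h3, h4, h5⟩
    have : psi ![0, 0, 0, 0, 0, -1, -1, 0, 1] b s = s * (s - b) := by
      simp [psi]; ring
    rw [this]
    rcases h5 with h5 | h5
    · exact mul_nonneg h2 (by linarith)
    · simp [h5]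
  · have e : val ![0, 0, 0, 0, 0, -1, -1, 0, 1] m a 2 = 2 * m ^ 2 * a *
        ((m - 2) * (m - 1) * (a - 1) + a * ((a + m - 3) + (m - 2) ^ 2) - (m - 2) * (a - 1) * (a + m - 3)) := by
      simp [val]; ring
    rw [e]
    rcases h with ⟨h1, h2⟩ | ⟨h1, h2⟩
    · have hm : 0 < m := by linarith
      have ha : 0 < a := by linarith
      apply mul_neg_of_pos_of_neg (by positivity)
      obtain ⟨i, rfl⟩ : ∃ i, m = 7 + i := ⟨m - 7, by ring⟩
      obtain ⟨j, rfl⟩ : ∃ j, a = 11 + i + j := ⟨a - 11 - i, by ring⟩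
      have hi : 0 ≤ i := by linarith
      have hj : 0 ≤ j := by linarith
      nlinarith [mul_nonneg hi hj, mul_nonneg hi (mul_nonneg hi hj), mul_nonneg hj (mul_nonneg hi hj),
        mul_nonneg hi hi, mul_nonneg hj hj]
    · subst h1
      have ha : 0 < a := by linarith
      apply mul_neg_of_pos_of_neg (by positivity)
      nlinarith

/-- coefficients for step A with `a = m + 2` -/
def kA (m : ℤ) : Fin 9 → ℤ := ![9 * m ^ 4, 144 - 276 * m + 196 * m ^ 2 - 64 * m ^ 3,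
  1008 - 828 * m + 196 * m ^ 2, 864 - 276 * m, 144, -12 * m + 16 * m ^ 2 - 8 * m ^ 3,
  -36 * m + 16 * m ^ 2, -12 * m, 4 * m ^ 2]

theorem psi_kA {m b s : ℤ} (hm : 0 ≤ m) (h : PA m b s) : 0 ≤ psi (kA m) b s := by
  obtain ⟨h0, h1, h2, h3, h4, h5⟩ := h
  have e : psi (kA m) b s = (2 * m * s - 2 * m * b - 3 * (2 * b - m) ^ 2) ^ 2 +
      4 * m * (s - b) * (3 * b - m) ^ 2 := by
    simp [psi, kA]; ring
  rw [e]
  rcases h5 with h5 | h5
  · have : 0 ≤ s - b := by linarith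
    positivity
  · subst h5
    have e2 : 400 * ((2 * m * 0 - 2 * m * b - 3 * (2 * b - m) ^ 2) ^ 2 +
        4 * m * (0 - b) * (3 * b - m) ^ 2) = (240 * b ^ 2 - 230 * m * b + 44 * m ^ 2) ^ 2 +
        m ^ 2 * (4380 * b ^ 2 - 5360 * m * b + 1664 * m ^ 2) := by ring
    have e3 : 0 ≤ 4380 * b ^ 2 - 5360 * m * b + 1664 * m ^ 2 := by
      nlinarith [sq_nonneg (4380 * b - 2680 * m), sq_nonneg m]
    have : 0 ≤ (240 * b ^ 2 - 230 * m * b + 44 * m ^ 2) ^ 2 +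
        m ^ 2 * (4380 * b ^ 2 - 5360 * m * b + 1664 * m ^ 2) := by positivity
    linarith

theorem certA2 {m : ℤ} (h : 32 ≤ m) : Cert m (m + 2) 2 (PA m) := by
  refine ⟨kA m, by simp [kA]; positivity, fun b s hb => psi_kA (by linarith) hb, ?_⟩
  obtain ⟨i, rfl⟩ : ∃ i, m = 32 + i := ⟨m - 32, by ring⟩
  have hi : 0 ≤ i := by linarith
  have : 0 < -val (kA (32 + i)) (32 + i) (32 + i + 2) 2 := by
    simp only [val, kA, Matrix.cons_val]; ring_nf; positivity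
  linarith

theorem certA3 {m : ℤ} (h : 13 ≤ m) : Cert m (m + 2) 3 (PA m) := by
  refine ⟨kA m, by simp [kA]; positivity, fun b s hb => psi_kA (by linarith) hb, ?_⟩
  obtain ⟨i, rfl⟩ : ∃ i, m = 13 + i := ⟨m - 13, by ring⟩
  have hi : 0 ≤ i := by linarith
  have : 0 < -val (kA (13 + i)) (13 + i) (13 + i + 2) 3 := by
    simp only [val, kA, Matrix.cons_val]; ring_nf; positivity
  linarith

/-- coefficients for step B -/
def kB (m : ℤ) : Fin 9 → ℤ := ![m ^ 4, 16 - 128 * m + 72 * m ^ 2 - 8 * m ^ 3,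
  112 - 384 * m + 72 * m ^ 2, 96 - 128 * m, 16, 96 * m - 64 * m ^ 2, 288 * m - 64 * m ^ 2, 96 * m,
  16 * m ^ 2]

theorem certB {m : ℤ} (h : 5 ≤ m) : Cert m m 2 (PB m) := by
  refine ⟨kB m, by simp [kB]; positivity, ?_, ?_⟩
  · rintro b s ⟨h0, h2, h5⟩
    have hm : 0 ≤ m := by linarith
    have e : psi (kB m) b s = (4 * m * s - 4 * b ^ 2 - m ^ 2) ^ 2 +
        8 * m * (s - b) * (4 * b - m) ^ 2 := by
      simp [psi, kB]; ring
    rw [e]
    rcases h5 with h5 | ⟨h5, h6⟩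
    · have : 0 ≤ s - b := by linarith
      positivity
    · subst h5
      have h7 : 0 ≤ m - 2 * b := by linarith
      nlinarith [mul_nonneg h0 h7, sq_nonneg b, sq_nonneg (m - 2 * b), sq_nonneg (m - 4 * b), sq_nonneg (m - 6 * b),
        mul_nonneg (mul_nonneg h0 h7) (sq_nonneg (m - 4 * b)), mul_nonneg (mul_nonneg h0 h7) (sq_nonneg (m - 6 * b)),
        mul_nonneg (mul_nonneg h0 h7) (sq_nonneg b), sq_nonneg (m ^ 2 - 4 * m * b), sq_nonneg (m ^ 2 - 4 * m * b + 4 * b ^ 2)]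
  · obtain ⟨i, rfl⟩ : ∃ i, m = 5 + i := ⟨m - 5, by ring⟩
    have hi : 0 ≤ i := by linarith
    have : 0 < -val (kB (5 + i)) (5 + i) (5 + i) 2 := by
      simp only [val, kB, Matrix.cons_val]; ring_nf; positivity
    linarith

theorem cert_fin (m : ℕ) (k : Fin 9 → ℤ) (h8 : 0 ≤ k 8) (hv : val k m (m + 2) 2 < 0)
    (hp : ∀ b ∈ List.range (m + 1), ∀ s ∈ List.range (m + 1),
      s ≤ 2 * b → s + 2 * b ≤ 2 * m → (b ≤ s ∨ s = 0) → 0 ≤ psi k b s) :
    Cert m (m + 2) 2 (PA m) := by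
  refine ⟨k, h8, ?_, hv⟩
  rintro b s ⟨h0, h1, h2, h3, h4, h5⟩
  lift b to ℕ using h0
  lift s to ℕ using h2
  exact hp b (List.mem_range.2 (by omega)) s (List.mem_range.2 (by omega)) (by omega) (by omega) (by omega)

theorem cert8 : Cert (8 : ℕ) ((8 : ℕ) + 2) 2 (PA (8 : ℕ)) :=
  cert_fin 8 ![1720, -715, 114, -7, 0, -284, 111, -18, 11] (by decide) (by decide +kernel) (by decide +kernel)

theorem cert14 : Cert (14 : ℕ) ((14 : ℕ) + 2) 2 (PA (14 : ℕ)) :=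
  cert_fin 14 ![85848, -29409, 4762, -425, 17, -6198, 1063, -74, 189] (by decide) (by decide +kernel) (by decide +kernel)

theorem cert18 : Cert (18 : ℕ) ((18 : ℕ) + 2) 2 (PA (18 : ℕ)) :=
  cert_fin 18 ![151344, -46940, 6671, -499, 16, -6491, 874, -44, 143] (by decide) (by decide +kernel) (by decide +kernel)

theorem cert20 : Cert (20 : ℕ) ((20 : ℕ) + 2) 2 (PA (20 : ℕ)) :=
  cert_fin 20 ![41130, -11827, 1536, -104, 3, -1539, 197, -9, 28] (by decide) (by decide +kernel) (by decide +kernel)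

theorem cert26 : Cert (26 : ℕ) ((26 : ℕ) + 2) 2 (PA (26 : ℕ)) :=
  cert_fin 26 ![72726, -17062, 1774, -93, 2, -1938, 182, -6, 28] (by decide) (by decide +kernel) (by decide +kernel)

theorem cert28 : Cert (28 : ℕ) ((28 : ℕ) + 2) 2 (PA (28 : ℕ)) :=
  cert_fin 28 ![495040, -109335, 10526, -507, 10, -11436, 1063, -33, 131] (by decide) (by decide +kernel) (by decide +kernel)

end Cfsg.Agent.Prae
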