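import Cfsg.Agent.Prae.Cl

set_option autoImplicit false

namespace Cfsg.Agent.Prae
open Equiv

variable {Ω : Type} [Fintype Ω] [DecidableEq Ω]

/-- handshake: an orbital of `R` on the orbit `O = orb R x` that is symmetric has `|O|·valency` even.
Proof: the finset `P = {(p,q) | ∃ g ∈ R, g x = p ∧ g y = q}` has `|O|·|orb (st R x) y|` elements (fibres over the first
coordinate, `orb_st_image`), and `Prod.swap` is a fixed-point-free involution of `P`
(or use `SimpleGraph.sum_degrees_eq_twice_card_edges`). -/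
theorem hand {R : Subgroup (Perm Ω)} {x y : Ω} (hxy : x ≠ y) (hs : ∃ g ∈ R, g x = y ∧ g y = x) :
    Even ((orb R x).card * (orb (st R x) y).card) := by
  classical
  obtain ⟨s, hs, h1, h2⟩ := hs
  let Γ : SimpleGraph Ω :=
    { Adj := fun p q => ∃ g ∈ R, g x = p ∧ g y = q
      symm := ⟨fun p q ⟨g, hg, a, b⟩ => ⟨g * s, R.mul_mem hg hs, by simp [h1, b], by simp [h2, a]⟩⟩
      loopless := ⟨fun p ⟨g, _, a, b⟩ => hxy (g.injective (a.trans b.symm))⟩ }
  have k := Γ.sum_degrees_eq_twice_card_edges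
  rw [← Finset.sum_subset (Finset.subset_univ (orb R x)) fun p _ hp => (Γ.degree_eq_zero_iff_notMem_support p).2
    fun ⟨_, g, hg, a, _⟩ => hp (mem_orb.2 ⟨g, hg, a⟩), Finset.sum_const_nat (m := (orb (st R x) y).card)
      fun p hp => ?_] at k
  · exact k ▸ even_two_mul _
  obtain ⟨g, hg, rfl⟩ := mem_orb.1 hp
  rw [← Finset.card_image_of_injective _ g.injective, ← orb_st_image hg, SimpleGraph.degree]
  congr 1
  ext q
  rw [SimpleGraph.mem_neighborFinset, mem_orb]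
  exact ⟨fun ⟨w, hw, a, b⟩ => ⟨w * g⁻¹, mem_st.2 ⟨R.mul_mem hw (R.inv_mem hg), by simp [a]⟩, by simp [b]⟩,
    fun ⟨w, hw, b⟩ => ⟨w * g, R.mul_mem (mem_st.1 hw).1 hg, (mem_st.1 hw).2, b⟩⟩

/-- A proper orbit with `dl = 1` is 2-transitive. Strong induction on `(orb R x).card` (generalising `R x z`).
`O = orb R x`, `|O| = 2f+1` odd, has a fixed point `β` (`dl_one`), `O = orb R β`; `b = |cl K R β|` divides `2f+1` and `f`
(`cl_dvd`) so `b = 1`, `cl = {β}`; `Γ = O \ {β}` has `dl = 2` (`cl_split`). Pick `a ∈ Γ`, `A = orb (st R β) a ⊆ Γ`, `dl A ≥ 1`.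
If `Γ = A`: `R_β` transitive on `O \ {β}`, done with transitivity of `R` on `O`. Otherwise `dl A = 1`, `dl (Γ \ A) = 1` and
(`Ce.inv_dl`, peel once more) `Γ \ A = B = orb (st R β) b'` with `dl B = 1`. Induction: `st R β` is 2-transitive on `A`, `|A| ≥ 3`, `|A|`,`|B|` odd (`dl_one`).
Take `p ≠ q ∈ A`; some `r ∈ R` swaps them; `t ∈ R` with `t p = β`; `c = t q ∈ Γ`; `t r t⁻¹` swaps `β, c`; `orb (st R β) c` is `A` or `B`, odd size:
contradiction with `hand` since `|O|` is odd. -/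
theorem Ce.p1 {G K R : Subgroup (Perm Ω)} (h : Ce G K) (hKR : K ≤ R) (hRG : R ≤ G) {x z : Ω}
    (hz : z ∉ orb R x) (hd : dl K (orb R x) = 1) :
    ∀ p ∈ orb R x, ∀ q ∈ orb R x, ∀ p' ∈ orb R x, ∀ q' ∈ orb R x, p ≠ q → p' ≠ q' →
      ∃ g ∈ R, g p = p' ∧ g q = q' := by
  induction hn : (orb R x).card using Nat.strong_induction_on generalizing R x z with
  | _ n ih =>
  obtain ⟨-, hc, -, ⟨β, hβ, fβ⟩, -⟩ := dl_one (fun k hk y hy => orb_inv (hKR hk) hy) hd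
  rw [← orb_eq hβ] at hz hd hn hc ⊢
  obtain ⟨d1, d2⟩ := cl_dvd K R β
  obtain ⟨i1, i2, i3⟩ := cl_split (h.pn.mono hRG) hKR fβ
  have c1 : (cl K R β).card = 1 := Nat.dvd_one.1 ((Nat.dvd_add_right (d2.mul_left 2)).1 (hc ▸ d1))
  obtain ⟨b, hb⟩ := Finset.card_eq_one.1 c1
  obtain rfl : β = b := Finset.mem_singleton.1 (hb ▸ self_mem_cl K R β)
  rw [hd, c1] at i3
  rw [hb] at i1 i2 i3
  have K' := le_st hKR fβ
  have G' := (st_le R β).trans hRG
  have sub : ∀ c ∈ orb R β \ {β}, orb (st R β) c ⊆ orb R β \ {β} := fun c hc y hy => by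
    obtain ⟨g, hg, rfl⟩ := mem_orb.1 hy
    exact i1 g hg c hc
  have nβ : β ∉ orb R β \ {β} := by simp
  have mv : ∀ p ∈ orb R β, ∀ q ∈ orb R β, p ≠ q → ∃ g ∈ R, g p = β ∧ g q ∈ orb R β \ {β} :=
    fun p hp q hq pq => by
      obtain ⟨g, hg, e⟩ := mem_orb.1 (orb_symm hp)
      exact ⟨g, hg, e, Finset.mem_sdiff.2 ⟨orb_inv hg hq, fun k =>
        pq (g.injective (e.trans (Finset.mem_singleton.1 k).symm))⟩⟩
  by_cases tr : ∀ a ∈ orb R β \ {β}, ∀ c ∈ orb R β \ {β}, c ∈ orb (st R β) a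
  · intro p hp q hq p' hp' q' hq' pq pq'
    obtain ⟨g, hg, a, b⟩ := mv p hp q hq pq
    obtain ⟨g', hg', a', b'⟩ := mv p' hp' q' hq' pq'
    obtain ⟨w, hw, e⟩ := mem_orb.1 (tr _ b _ b')
    exact ⟨g'⁻¹ * (w * g), R.mul_mem (R.inv_mem hg') (R.mul_mem (mem_st.1 hw).1 hg),
      Equiv.Perm.inv_eq_iff_eq.2 (by simp [a, (mem_st.1 hw).2, a']), by simp [e]⟩
  push Not at tr
  obtain ⟨a, ha, a', ha', na⟩ := tr
  have one : ∀ c ∈ orb R β \ {β}, dl K (orb (st R β) c) = 1 := fun c hc => by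
    have h1 := h.orb_dl K' G' (fun k => nβ (sub c hc k)) (i2 c hc)
    have h2 := (h.inv_dl K' G' (z := β) ((orb R β \ {β}) \ orb (st R β) c) (fun k => nβ (Finset.mem_sdiff.1 k).1)
      (fun g hg y hy => Finset.mem_sdiff.2 ⟨i1 g hg y (Finset.mem_sdiff.1 hy).1, fun k =>
        (Finset.mem_sdiff.1 hy).2 (by simpa using orb_inv ((st R β).inv_mem hg) k)⟩)
      fun y hy => i2 y (Finset.mem_sdiff.1 hy).1).2 (by
        by_cases k : a ∈ orb (st R β) c
        · exact ⟨a', Finset.mem_sdiff.2 ⟨ha', orb_eq k ▸ na⟩⟩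
        · exact ⟨a, Finset.mem_sdiff.2 ⟨ha, k⟩⟩)
    have h3 := dl_sdiff K (sub c hc)
    omega
  have d := fun c hc => dl_one (fun k hk y hy => orb_inv (K' hk) hy) (one c hc)
  obtain ⟨p, hp, q, hq, pq⟩ := Finset.one_lt_card.1 (lt_of_lt_of_le (by norm_num) (d a ha).1)
  obtain ⟨r, hr, r1, r2⟩ := ih _ (hn ▸ Finset.card_lt_card ((sub a ha).trans_ssubset
    (Finset.sdiff_ssubset (Finset.singleton_subset_iff.2 (self_mem_orb R β)) (Finset.singleton_nonempty β))))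
    K' G' (fun k => nβ (sub a ha k)) (one a ha) rfl p hp q hq q hq p hp pq pq.symm
  obtain ⟨t, ht, e, m⟩ := mv p (Finset.mem_sdiff.1 (sub a ha hp)).1 q (Finset.mem_sdiff.1 (sub a ha hq)).1 pq
  have := hand (R := R) (x := β) (y := t q) (fun k => nβ (k ▸ m))
    ⟨t * r * t⁻¹, R.mul_mem (R.mul_mem ht (mem_st.1 hr).1) (R.inv_mem ht), by simp [← e, r1], by simp [r2, e]⟩
  rw [hc, (d _ m).2.1] at this
  exact absurd this (Nat.not_even_iff_odd.2 ((odd_two_mul_add_one _).mul (odd_two_mul_add_one _)))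

end Cfsg.Agent.Prae
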